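import Groth.Agent.AVFieldDual.DualBC
import Groth.Agent.S7815

/-!
# Isogenies of abelian schemes on fibres
-/

noncomputable section

set_option autoImplicit false
set_option linter.style.haveILetI false
set_option linter.unusedSectionVars false
set_option backward.isDefEq.respectTransparency false
set_option backward.isDefEq.respectTransparency.types false
set_option maxHeartbeats 1000000

universe u

open CategoryTheory CategoryTheory.Limits MonoidalCategory CartesianMonoidalCategory MonObj AlgebraicGeometry

namespace Groth.Agent.AVField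

open Groth.Agent Groth.Agent.H23
open scoped Groth.Agent.H23.PicMul

variable {S : Scheme.{u}} {X Y : Over S} [GrpObj X] [GrpObj Y]

/-- The kernel identifies the fibre product of a homomorphism with itself with a product. -/
theorem isPullback_shear_over (f : X ⟶ Y) [IsMonHom f] {K : Over S} (i : K ⟶ X)
    (hk : IsPullback i (toUnit K) f η[Y]) :
    IsPullback (fst X K) (fst X K * (snd X K ≫ i)) f f := by
  have hi : i ≫ f = 1 := hk.w
  have w : fst X K ≫ f = (fst X K * (snd X K ≫ i)) ≫ f := by
    rw [MonObj.mul_comp, Category.assoc, hi, MonObj.comp_one, _root_.mul_one]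
  let m := fun (s : PullbackCone f f) => s.fst⁻¹ * s.snd
  have hm : ∀ s : PullbackCone f f, m s ≫ f = toUnit _ ≫ η[Y] := fun s => by
    show (s.fst⁻¹ * s.snd) ≫ f = 1
    rw [MonObj.mul_comp, GrpObj.inv_comp, s.condition, inv_mul_cancel]
  refine ⟨⟨w⟩, ⟨PullbackCone.IsLimit.mk w (fun s => lift s.fst (hk.lift (m s) (toUnit _) (hm s)))
    (fun s => lift_fst _ _) (fun s => ?_) fun s t h1 h2 => ?_⟩⟩
  · rw [MonObj.comp_mul, lift_fst, lift_snd_assoc, hk.lift_fst, mul_inv_cancel_left]
  · refine CartesianMonoidalCategory.hom_ext _ _ ?_ ?_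
    · rw [lift_fst]
      exact h1
    · refine hk.hom_ext ?_ (toUnit_unique _ _)
      rw [lift_snd, hk.lift_fst]
      show _ = s.fst⁻¹ * s.snd
      rw [← h2, MonObj.comp_mul, ← h1, Category.assoc, inv_mul_cancel_left]

/-- A surjective homomorphism between proper groups with finite kernel is finite. -/
theorem isFinite_of_kernel (f : X ⟶ Y) [IsMonHom f] [Surjective f.left] [IsProper X.hom] [IsSeparated Y.hom]
    {K : Over S} (i : K ⟶ X) (hk : IsPullback i (toUnit K) f η[Y]) [IsFinite K.hom] : IsFinite f.left := by
  haveI : IsProper f.left := by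
    haveI : IsProper (f.left ≫ Y.hom) := by rw [Over.w]; infer_instance
    exact IsProper.of_comp f.left Y.hom
  have sq := (isPullback_shear_over f i hk).map (Over.forget S)
  haveI : IsFinite (fst X K).left := inferInstanceAs (IsFinite (pullback.fst X.hom K.hom))
  haveI : LocallyQuasiFinite f.left := locallyQuasiFinite_iff_finite_preimage_singleton.2 fun y => by
    obtain ⟨x, rfl⟩ := f.left.surjective y
    refine ((Scheme.Hom.finite_preimage_singleton (fst X K).left x).image
      ((fst X K * (snd X K ≫ i)).left)).subset fun z hz => ?_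
    obtain ⟨w, h1, h2⟩ := Scheme.exists_preimage_of_isPullback sq x z hz.symm
    exact ⟨w, h1, h2⟩
  exact IsFinite.of_isProper_of_locallyQuasiFinite f.left

variable {S' : Scheme.{u}} (q : S' ⟶ S)

theorem isPullback_map {A B : Over S} (f : A ⟶ B) :
    IsPullback (pullback.fst A.hom q) ((Over.pullback q).map f).left f.left (pullback.fst B.hom q) :=
  IsPullback.of_bot (by
    show IsPullback (pullback.fst A.hom q) (((Over.pullback q).map f).left ≫ pullback.snd B.hom q)
      (f.left ≫ B.hom) q
    rw [show ((Over.pullback q).map f).left ≫ pullback.snd B.hom q = pullback.snd A.hom q from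
      pullback.lift_snd _ _ _, Over.w f]
    exact IsPullback.of_hasPullback A.hom q) (pullback.lift_fst _ _ _).symm
    (IsPullback.of_hasPullback B.hom q)

/-- Base change preserves transposes. -/
theorem isTranspose_bc {A At B Bt : Over S} [GrpObj Bt] {φA : AgPol.DualMap A At} {φB : AgPol.DualMap B Bt}
    (hB : AbDual.IsDualAV Scheme.fppfPrecoverage B Bt φB) {f : A ⟶ B} {ft : Bt ⟶ At}
    (hft : AbDual.IsTranspose f φA φB ft) :
    AbDual.IsTranspose ((Over.pullback q).map f) (AgPol.bcDual q A At φA) (AgPol.bcDual q B Bt φB)
      ((Over.pullback q).map ft) := fun T c hc => by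
  have h := bcDual_pull q hB.relPic.natural hft (𝟙 T) hc
  rw [Category.id_comp] at h
  rw [← h]
  congr 2

end Groth.Agent.AVField
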