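import Groth.Agent.AVDualCx.Concentrated
import Groth.Agent.AVDualCx.Descend

/-!
# The degree of the polarisation map is the square of the Euler characteristic, over any field
-/

noncomputable section

set_option autoImplicit false
set_option linter.style.haveILetI false
set_option linter.unusedSectionVars false
set_option backward.isDefEq.respectTransparency false
set_option backward.isDefEq.respectTransparency.types false
set_option maxHeartbeats 1000000

universe u

open CategoryTheory CategoryTheory.Limits MonoidalCategory CartesianMonoidalCategory MonObj AlgebraicGeometry TopologicalSpace Opposite IsLocalRing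

namespace Groth.Agent.AVField

open Groth.Agent Groth.Agent.H23 Groth.Agent.H23.TrivBasic Groth.Agent.AVPair Groth.Agent.AVDual Groth.Agent.AVDualCx
open scoped Groth.Agent.H23.PicMul

variable {k : Type u} [Field k] {A At : Over (Spec (CommRingCat.of k))} [GrpObj A] [IsProper A.hom]
  [GeometricallyIntegral A.hom] [GrpObj At] [IsProper At.hom] [GeometricallyIntegral At.hom]
  {φ : ∀ T : Over (Spec (CommRingCat.of k)), PicF.Cl (PicF.XT A.hom T) → (T ⟶ At)}
  (hφ : AbDual.IsDualAV Scheme.fppfPrecoverage A At φ) {P : (A ⊗ At).left.Modules}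

include hφ in
/-- **The square of the Euler characteristic is the degree of the polarisation map.** -/
theorem euler_sq (hP : PicF.IsInvertible P) (hξ : AbDual.IsPoincareCl A At φ (PicF.cl P))
    {L L' : A.left.Modules} (hL : PicF.IsInvertible L) (hL' : PicF.cl L * PicF.cl L' = 1)
    (lam : A ⟶ At) [IsFinite lam.left] [Flat lam.left] (d : ℕ) (hd : ∀ y, Scheme.Hom.finrank lam.left y = d)
    (hlam : pl (A ◁ lam) (PicF.cl P) = pl μ[A] (PicF.cl L) * pl (fst A A) (PicF.cl L') * pl (snd A A) (PicF.cl L')) :
    @Curv2.euler k _ A.left ⟨A.hom⟩ L ^ 2 = (d : ℤ) := by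
  letI : A.left.Over (Spec (CommRingCat.of k)) := ⟨A.hom⟩
  letI : At.left.Over (Spec (CommRingCat.of k)) := ⟨At.hom⟩
  letI : (A ⊗ A).left.Over (Spec (CommRingCat.of k)) := ⟨(snd A A).left ≫ A.hom⟩
  letI : (A ⊗ At).left.Over (Spec (CommRingCat.of k)) := ⟨(snd A At).left ≫ At.hom⟩
  haveI : IsProper (A.left ↘ Spec (CommRingCat.of k)) := ‹IsProper A.hom›
  haveI : IsProper (At.left ↘ Spec (CommRingCat.of k)) := ‹IsProper At.hom›
  haveI : IsIntegral A.left := GeometricallyIntegral.isIntegral_of_subsingleton A.hom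
  haveI : IsIntegral At.left := GeometricallyIntegral.isIntegral_of_subsingleton At.hom
  haveI := CurveCohLib.isNoetherian_of_proper (k := k) (X := A.left)
  haveI := CurveCohLib.isNoetherian_of_proper (k := k) (X := At.left)
  haveI : HasInjectiveResolutions (A ⊗ A).left.Modules := KFlatLib.hasInjectiveResolutions_modules
  haveI : HasInjectiveResolutions (A ⊗ At).left.Modules := KFlatLib.hasInjectiveResolutions_modules
  haveI : Surjective lam.left := Scheme.Hom.one_le_finrank_iff_surjective lam.left |>.1 fun y => by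
    obtain ⟨x⟩ : Nonempty A.left := inferInstance
    show 1 ≤ _
    rw [hd y, ← hd (lam.left x)]
    exact Scheme.Hom.one_le_finrank_map lam.left x
  obtain ⟨g, hg⟩ : ∃ g : ℕ, topologicalKrullDim A.left = g :=
    ⟨_, VarDim.topologicalKrullDim_eq_deg_genericPoint A.hom⟩
  have hgt : topologicalKrullDim At.left = g := (dim_eq_of_finite_surjective lam.left).symm.trans hg
  obtain ⟨hzero, ⟨iE⟩⟩ := poincare_concentrated_field hφ hP hξ hg
  let e : Spec (CommRingCat.of k) ⟶ At.left := (1 : 𝟙_ (Over (Spec (CommRingCat.of k))) ⟶ At).left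
  have he : e ≫ At.hom = 𝟙 _ := Over.w (1 : 𝟙_ (Over (Spec (CommRingCat.of k))) ⟶ At)
  haveI : IsClosedImmersion e := isClosedImmersion_of_comp_eq_id At.hom e he
  let E := (Coh.push e).obj (Coh.structureModule (Spec (CommRingCat.of k)))
  -- base change along `lam`
  let f : (A ⊗ A).left ⟶ A.left := (snd A A).left
  let f' : (A ⊗ At).left ⟶ At.left := (snd A At).left
  have sq : IsPullback (A ◁ lam).left f f' lam.left := EqvUnr.isPullback_whiskerLeft A lam
  haveI : IsProper f := inferInstanceAs (IsProper (pullback.snd A.hom A.hom))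
  haveI : IsProper f' := inferInstanceAs (IsProper (pullback.snd A.hom At.hom))
  haveI : IsProper ((A ⊗ A).left ↘ Spec (CommRingCat.of k)) := inferInstanceAs (IsProper (f ≫ A.hom))
  haveI := CurveCohLib.isNoetherian_of_proper (k := k) (X := (A ⊗ A).left)
  haveI : Flat (A ◁ lam).left := MorphismProperty.of_isPullback (P := @Flat) sq.flip inferInstance
  haveI : PreservesFiniteLimits (Scheme.Modules.pullback (A ◁ lam).left) :=
    RGLib.Lim8.preservesFiniteLimits_pullback _
  have hqP : Coh.IsQCoh P := QCoh.isQCoh_of_isFinLocFree (PullPush.isFinLocFree_of_isInvertible hP)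
  let Q := (Scheme.Modules.pullback (A ◁ lam).left).obj P
  have hbc : ∀ q, Nonempty ((Coh.Rpush f q).obj Q ≅ (Scheme.Modules.pullback lam.left).obj ((Coh.Rpush f' q).obj P)) := fun q => by
    haveI := FlatBC6.isIso_bcQ_flat (f := f') (g := lam.left) (f' := f) (g' := (A ◁ lam).left) sq hqP q
    exact ⟨(asIso (CohBC.bcQ f' lam.left f (A ◁ lam).left sq.w q P)).symm⟩
  -- the direct image is supported on a finite scheme
  let K := pullback e lam.left
  let i : K ⟶ A.left := pullback.snd e lam.left
  haveI : IsClosedImmersion i := inferInstanceAs (IsClosedImmersion (pullback.snd e lam.left))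
  haveI : IsFinite (pullback.fst e lam.left) := inferInstanceAs (IsFinite (pullback.fst e lam.left))
  haveI : Flat (pullback.fst e lam.left) := inferInstanceAs (Flat (pullback.fst e lam.left))
  obtain ⟨b⟩ := AVEuler.nonempty_pullback_push e lam.left i (pullback.fst e lam.left)
    (IsPullback.of_hasPullback e lam.left) QCoh.isQCoh_structureModule
  obtain ⟨o⟩ := PicClLib.nonempty_pullback_structureModule (pullback.fst e lam.left)
  let iK : (Scheme.Modules.pullback lam.left).obj E ≅ (Coh.push i).obj (Coh.structureModule K) :=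
    b ≪≫ (Coh.push i).mapIso o
  have htw : Nonempty (CohB1.tensorMod ((Coh.push i).obj (Coh.structureModule K)) L ≅
      (Coh.push i).obj (Coh.structureModule K)) := by
    obtain ⟨V, hV, ⟨a⟩⟩ := S0235.result (pullback.fst e lam.left) ((Scheme.Modules.pullback i).obj L)
      (PicClLib.isInvertible_pullback _ hL) (closedPoint k)
    haveI : Subsingleton ↥(Spec (CommRingCat.of k)) := inferInstanceAs (Subsingleton (PrimeSpectrum k))
    obtain rfl : V = ⊤ := top_le_iff.1 fun z _ => by rwa [Subsingleton.elim z (closedPoint k)]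
    let W : K.Opens := pullback.fst e lam.left ⁻¹ᵁ ⊤
    let j : K ⟶ W.toScheme := (Scheme.topIso K).inv
    have hj : j ≫ W.ι = 𝟙 K := (Scheme.topIso K).inv_hom_id
    obtain ⟨o'⟩ := PicClLib.nonempty_pullback_structureModule j
    let t : (Scheme.Modules.pullback i).obj L ≅ Coh.structureModule K :=
      ((Scheme.Modules.pullbackId _).app _).symm ≪≫ (Scheme.Modules.pullbackCongr hj).symm.app _ ≪≫
        ((Scheme.Modules.pullbackComp j W.ι).app _).symm ≪≫
        (Scheme.Modules.pullback j).mapIso (((Scheme.Modules.restrictFunctorIsoPullback W.ι).app _).symm ≪≫ a) ≪≫ o'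
    obtain ⟨p⟩ := IntNum.push_tensor i (Coh.structureModule K) L
    obtain ⟨u⟩ : Nonempty (CohB1.tensorMod (Coh.structureModule K) (Coh.structureModule K) ≅ Coh.structureModule K) :=
      PicMul.cl_eq_iff.1 ((PicMul.cl_tensor _ _).trans (_root_.one_mul (1 : PicF.Cl K)))
    exact ⟨p.symm ≪≫ (Coh.push i).mapIso (PicGrp.tensorModIso (Iso.refl _) t ≪≫ u)⟩
  -- twisting by the second factor
  let G := CohB1.tensorMod ((Scheme.Modules.pullback f).obj L) Q
  have hQ : PicF.IsInvertible Q := PicClLib.isInvertible_pullback _ hP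
  have hGi : PicF.IsInvertible G := PicMul.isInvertible_tensor (PicClLib.isInvertible_pullback _ hL) hQ
  have hRG : ∀ q, Nonempty ((Coh.Rpush f q).obj G ≅ CohB1.tensorMod L ((Coh.Rpush f q).obj Q)) := fun q =>
    (KFlatLib.nonempty_rpush_tensor_finLocFree f Q L (PullPush.isFinLocFree_of_isInvertible hL) q).map Iso.symm
  have hG1 : Curv2.euler k (A ⊗ A).left G = (-1 : ℤ) ^ g * d := by
    rw [euler_of_concentrated f rfl (AmpleVan.isCoh_invertible hGi) (g := g) fun q hq => by
      have h := (hzero q hq)
      have h' : IsZero ((Coh.Rpush f q).obj Q) :=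
        ((Scheme.Modules.pullback lam.left).map_isZero h).of_iso (hbc q).some
      exact (((DCoh.tensorBi.obj L)).map_isZero h').of_iso (hRG q).some]
    congr 1
    rw [CurveCohLib.euler_congr (k := k) ((hRG g).some ≪≫
      PicGrp.tensorModIso (Iso.refl L) ((hbc g).some ≪≫ (Scheme.Modules.pullback lam.left).mapIso iE ≪≫ iK) ≪≫
      (PicMul.cl_eq_iff.1 ((PicMul.cl_tensor _ _).trans ((_root_.mul_comm _ _).trans (PicMul.cl_tensor _ _).symm))).some ≪≫ htw.some ≪≫ iK.symm)]
    have hE : Coh.IsCoh E := QCoh.isCoh_push_structure e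
    rw [AVEuler.euler_pullback lam d hd E hE]
    show (d : ℤ) * Curv2.euler k At.left E = d
    rw [euler_push_point e he, _root_.mul_one]
  -- the same class through the shear
  let σ := GrpOmega.shear A
  haveI : IsIso σ.hom.left := inferInstanceAs (IsIso ((Over.forget _).mapIso σ).hom)
  let B := CohB1.tensorMod ((Scheme.Modules.pullback f).obj L) ((Scheme.Modules.pullback (fst A A).left).obj L')
  have hLi' : PicF.IsInvertible L' := by
    obtain ⟨D, hD, ⟨u⟩⟩ := H23.PicInv.exists_inverse hL
    have h2 : PicF.cl L * PicF.cl D = 1 := by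
      rw [← PicMul.cl_tensor, PicMul.one_def]; exact PicMul.cl_eq_iff.2 ⟨u⟩
    exact PicMul.isInvertible_of_iso (PicMul.cl_eq_iff.1 ((PicMul.isUnit_cl hL).mul_left_cancel (h2.trans hL'.symm))).some hD
  have hB : PicF.IsInvertible B :=
    PicMul.isInvertible_tensor (PicClLib.isInvertible_pullback _ hL) (PicClLib.isInvertible_pullback _ hLi')
  have hGB : PicF.cl G = PicF.cl ((Scheme.Modules.pullback σ.hom.left).obj B) := by
    show pl (snd A A) (PicF.cl L) * pl (A ◁ lam) (PicF.cl P) =
      pl σ.hom (pl (snd A A) (PicF.cl L) * pl (fst A A) (PicF.cl L'))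
    rw [hlam, map_mul, pl_pl, pl_pl,
      show σ.hom ≫ snd A A = μ[A] by simp [σ, GrpOmega.shear, MonObj.mul_eq_mul],
      show σ.hom ≫ fst A A = fst A A by simp [σ, GrpOmega.shear]]
    have h0 : pl (snd A A) (PicF.cl L) * pl (snd A A) (PicF.cl L') = 1 := by rw [← map_mul, hL', map_one]
    calc _ = pl μ[A] (PicF.cl L) * pl (fst A A) (PicF.cl L') *
        (pl (snd A A) (PicF.cl L) * pl (snd A A) (PicF.cl L')) := by ac_rfl
      _ = _ := by rw [h0, _root_.mul_one]
  have hG2 : Curv2.euler k (A ⊗ A).left G = Curv2.euler k A.left L' * Curv2.euler k A.left L := by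
    rw [CurveCohLib.euler_congr (k := k) (PicMul.cl_eq_iff.1 hGB).some,
      euler_pullback_iso σ.hom.left (by
        show σ.hom.left ≫ (snd A A).left ≫ A.hom = (snd A A).left ≫ A.hom
        rw [show (snd A A).left ≫ A.hom = (A ⊗ A).hom from Over.w (snd A A)]
        exact Over.w σ.hom) (QCoh.isQCoh_of_isFinLocFree (PullPush.isFinLocFree_of_isInvertible hB))]
    exact euler_prod A A hLi' hL
  have hL'e : (Curv2.euler k A.left L' : ℚ) = (-1 : ℚ) ^ g * (Curv2.euler k A.left L : ℚ) := by
    have h := AVEuler.euler_homogeneous hg hL hLi' hL' 0 1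
    rw [CurveCohLib.euler_congr (k := k) (PicMul.cl_eq_iff.1 (show
      PicF.cl (CohB1.tensorMod (CohB1.tensorPow L 0) (CohB1.tensorPow L' 1)) = PicF.cl L' by
        rw [PicMul.cl_tensor, PicMul.cl_tensorPow, PicMul.cl_tensorPow, pow_zero, pow_one, _root_.one_mul])).some] at h
    simpa using h
  have h : ((-1 : ℚ) ^ g * (d : ℚ)) = (-1 : ℚ) ^ g * (Curv2.euler k A.left L : ℚ) ^ 2 := by
    have h0 := congrArg (fun z : ℤ => (z : ℚ)) (hG1.symm.trans hG2)
    push_cast at h0
    rw [h0, hL'e]
    ring
  have h' := mul_left_cancel₀ (pow_ne_zero g (by norm_num : (-1 : ℚ) ≠ 0)) h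
  exact_mod_cast h'.symm

end Groth.Agent.AVField
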