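import Groth.Agent.AVFieldDual.Poincare
import Groth.Agent.AVFieldDual.EulerSq
import Groth.Agent.AVFieldDual.Dim
import Groth.Agent.AVTrace.Exact
import Groth.Agent.AVIndex.Orth
import Groth.Agent.SchTorsor.Props
import Groth.Agent.EtFound.Descent

/-!
# The homomorphism of an ample module over any field
-/

noncomputable section

set_option autoImplicit false
set_option linter.style.haveILetI false
set_option linter.unusedSectionVars false
set_option backward.isDefEq.respectTransparency false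
set_option backward.isDefEq.respectTransparency.types false
set_option maxHeartbeats 1000000

universe u

open CategoryTheory CategoryTheory.Limits MonoidalCategory CartesianMonoidalCategory MonObj AlgebraicGeometry TopologicalSpace

namespace Groth.Agent.AVField

open Groth.Agent Groth.Agent.H23 Groth.Agent.H23.TrivBasic Groth.Agent.AVPair Groth.Agent.AVDual Groth.Agent.AVDualCx
open scoped Groth.Agent.H23.PicMul

variable {k : Type u} [Field k] {A At : Over (Spec (CommRingCat.of k))} [GrpObj A] [IsProper A.hom]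
  [GeometricallyIntegral A.hom] [GrpObj At] [IsProper At.hom] [GeometricallyIntegral At.hom]

/-- The Mumford class. -/
def mum (l d : PicF.Cl A.left) : PicF.Cl (A ⊗ A).left := pl μ[A] l * pl (fst A A) d * pl (snd A A) d

theorem isInvertibleCl_inv {l d : PicF.Cl A.left} (hl : PicF.IsInvertibleCl l) (hld : l * d = 1) :
    PicF.IsInvertibleCl d := by
  obtain ⟨L, rfl, hL⟩ := hl
  obtain ⟨D, hD, ⟨e⟩⟩ := PicInv.exists_inverse hL
  have h2 : PicF.cl L * PicF.cl D = 1 := by rw [← PicMul.cl_tensor]; exact PicMul.cl_eq_iff.2 ⟨e⟩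
  exact ⟨D, (PicMul.isUnit_cl hL).mul_left_cancel (h2.trans hld.symm), hD⟩

theorem isInvertibleCl_mum {l d : PicF.Cl A.left} (hl : PicF.IsInvertibleCl l) (hld : l * d = 1) :
    PicF.IsInvertibleCl (mum l d) :=
  PicMul.isInvertibleCl_mul (PicMul.isInvertibleCl_mul (isInv_pl _ hl) (isInv_pl _ (isInvertibleCl_inv hl hld)))
    (isInv_pl _ (isInvertibleCl_inv hl hld))

theorem pz_mum {l d : PicF.Cl A.left} (hl : PicF.IsInvertibleCl l) (hld : l * d = 1) : PZ A A (mum l d) := by
  refine AVDual.pz_of_slice (1 : 𝟙_ (Over (Spec (CommRingCat.of k))) ⟶ A) (isInvertibleCl_mum hl hld) ?_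
  simp only [mum, map_mul, pl_pl]
  rw [show lift (𝟙 A) (toUnit A ≫ (1 : 𝟙_ _ ⟶ A)) ≫ μ[A] = 𝟙 A by
      rw [MonObj.comp_one]; exact _root_.mul_one (𝟙 A),
    lift_fst, lift_snd, pl_const (isInvertibleCl_inv hl hld), _root_.mul_one, pl_id, pl_id, hld]

variable {φ : ∀ T : Over (Spec (CommRingCat.of k)), PicF.Cl (PicF.XT A.hom T) → (T ⟶ At)}
  (hφ : AbDual.IsDualAV Scheme.fppfPrecoverage A At φ) {P : (A ⊗ At).left.Modules}
  (hξ : AbDual.IsPoincareCl A At φ (PicF.cl P))

include hφ hξ in
theorem pl_poincare_mum {l d : PicF.Cl A.left} (hl : PicF.IsInvertibleCl l) (hld : l * d = 1) :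
    pl (A ◁ φ A (mum l d)) (PicF.cl P) = mum l d := by
  haveI : IsIntegral A.left := GeometricallyIntegral.isIntegral_of_subsingleton A.hom
  obtain ⟨hP1, -⟩ := poincare_axes hφ hξ
  refine eq_of_phi hφ (pz_pl _ hξ.1) (pz_mum hl hld) (by rw [phi_pl hφ _ hξ.1, hξ.2.1, Category.comp_id]) 1 ?_
  generalize φ A (mum l d) = lam
  rw [pl_pl, show lift (1 : A ⟶ A) (𝟙 A) ≫ A ◁ lam = lam ≫ lift (1 : At ⟶ A) (𝟙 At) by
    ext <;> simp [MonObj.comp_one], ← pl_pl, hP1, map_one]
  simp only [mum, map_mul, pl_pl]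
  rw [show lift (1 : A ⟶ A) (𝟙 A) ≫ μ[A] = 𝟙 A from _root_.one_mul (𝟙 A), lift_fst, lift_snd,
    show (1 : A ⟶ A) = toUnit A ≫ η[A] from Hom.one_def, pl_const (isInvertibleCl_inv hl hld), _root_.mul_one, pl_id,
    pl_id, hld]

include hφ in
theorem isMonHom_phi_mum {l d : PicF.Cl A.left} (hl : PicF.IsInvertibleCl l) (hld : l * d = 1) :
    IsMonHom (φ A (mum l d)) := by
  refine GrpSchLib.RigidHom.isMonHom_of_one _ ?_
  rw [← phi_pl hφ η[A] (pz_mum hl hld), show pl (A ◁ η[A]) (mum l d) = 1 by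
    simp only [mum, map_mul, pl_pl]
    rw [show (A ◁ η[A]) ≫ μ[A] = fst A (𝟙_ _) by
      rw [MonObj.mul_one]; rfl,
      whiskerLeft_fst, whiskerLeft_snd, toUnit_unique (snd A (𝟙_ _)) (toUnit _),
      pl_const (isInvertibleCl_inv hl hld), _root_.mul_one, ← map_mul, hld,
      map_one], phi_one hφ, Hom.one_def, toUnit_unique (toUnit _) (𝟙 _), Category.id_comp]

variable {k' : Type u} [Field k'] [IsAlgClosed k'] (q : Spec (CommRingCat.of k') ⟶ Spec (CommRingCat.of k))

local notation "A'" => Red.bc q A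
local notation "B'" => Red.bc q At

include hφ hξ in
/-- The homomorphism of an ample module is an isogeny over an algebraically closed extension. -/
theorem bc_isogeny [IsAffineHom q] (hP : PicF.IsInvertible P) {L : A.left.Modules} (hLa : CohB1.IsAmple L)
    {d : PicF.Cl A.left} (hLD : PicF.cl L * d = 1) :
    let lam := φ A (mum (PicF.cl L) d)
    IsFinite ((Over.pullback q).map lam).left ∧ Flat ((Over.pullback q).map lam).left ∧
      Surjective ((Over.pullback q).map lam).left := by
  haveI : IsProper (A').hom := (BcComp.isAV_bc q A).1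
  haveI : GeometricallyIntegral (A').hom := (BcComp.isAV_bc q A).2
  haveI : IsProper (B').hom := (BcComp.isAV_bc q At).1
  haveI : GeometricallyIntegral (B').hom := (BcComp.isAV_bc q At).2
  intro lam
  have hL : PicF.IsInvertible L := hLa.1
  let l : PicF.Cl A.left := PicF.cl L
  have hd : PicF.IsInvertibleCl d := isInvertibleCl_inv ⟨L, rfl, hL⟩ hLD
  let c : PicF.Cl (A ⊗ A).left := pl μ[A] l * pl (fst A A) d * pl (snd A A) d
  have hlam : pl (A ◁ lam) (PicF.cl P) = c := pl_poincare_mum hφ hξ ⟨L, rfl, hL⟩ hLD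
  haveI : IsMonHom lam := isMonHom_phi_mum hφ ⟨L, rfl, hL⟩ hLD
  let lam' : A' ⟶ B' := (Over.pullback q).map lam
  let l' : PicF.Cl (A').left := PicF.pullCl (prj q A) l
  let d' : PicF.Cl (A').left := PicF.pullCl (prj q A) d
  have hd' : PicF.IsInvertibleCl d' := PicClLib.isInvertibleCl_pullCl _ hd
  have hld' : l' * d' = 1 := by
    show PicF.pullCl (prj q A) l * PicF.pullCl (prj q A) d = 1
    rw [← PicMul.pullCl_mul, hLD, PicMul.pullCl_one]
  have hbc : pl (A' ◁ lam') (PicF.cl (bcMod q P)) = pl μ[A'] l' * pl (fst A' A') d' * pl (snd A' A') d' := by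
    show PicF.pullCl (A' ◁ lam').left (PicF.pullCl (prj₂ q A At) (PicF.cl P)) = _
    rw [PicClLib.pullCl_comp, show (A' ◁ lam').left ≫ prj₂ q A At = prj₂ q A A ≫ (A ◁ lam).left from ?_,
      ← PicClLib.pullCl_comp]
    · show PicF.pullCl _ (pl (A ◁ lam) (PicF.cl P)) = _
      rw [hlam]
      show PicF.pullCl (prj₂ q A A) (PicF.pullCl μ[A].left l * PicF.pullCl (fst A A).left d *
          PicF.pullCl (snd A A).left d) =
        PicF.pullCl μ[A'].left (PicF.pullCl (prj q A) l) * PicF.pullCl (fst A' A').left (PicF.pullCl (prj q A) d) *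
          PicF.pullCl (snd A' A').left (PicF.pullCl (prj q A) d)
      simp only [PicMul.pullCl_mul, PicClLib.pullCl_comp]
      rw [prj₂_fst, prj₂_snd, mul_prj]
    · refine tensor_ext _ _ ?_ ?_
      · rw [Category.assoc, prj₂_fst, ← Category.assoc, ← Over.comp_left, whiskerLeft_fst, Category.assoc,
          ← Over.comp_left, whiskerLeft_fst, prj₂_fst]
      · rw [Category.assoc, prj₂_snd, ← Category.assoc, ← Over.comp_left, whiskerLeft_snd, Over.comp_left,
          Category.assoc, map_prj, Category.assoc, left_comp (A ◁ lam), whiskerLeft_snd, Over.comp_left,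
          ← Category.assoc (prj₂ q A A), prj₂_snd, Category.assoc]
  -- the slices
  have hslice : ∀ a : 𝟙_ (Over (Spec (CommRingCat.of k'))) ⟶ A',
      pl (lift (𝟙 A') (toUnit A' ≫ a ≫ lam')) (PicF.cl (bcMod q P)) = pl (CubeAb.tr a) l' * d' := fun a => by
    rw [show lift (𝟙 A') (toUnit A' ≫ a ≫ lam') = lift (𝟙 A') (toUnit A' ≫ a) ≫ A' ◁ lam' by
      rw [lift_whiskerLeft, Category.assoc], ← pl_pl, hbc]
    simp only [map_mul, pl_pl]
    rw [show lift (𝟙 A') (toUnit A' ≫ a) ≫ μ[A'] = CubeAb.tr a from rfl, lift_fst, lift_snd, pl_id, pl_const hd',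
      _root_.mul_one]
  let L' : (A').left.Modules := (Scheme.Modules.pullback (prj q A)).obj L
  haveI : IsAffineHom (prj q A) := MorphismProperty.pullback_fst (P := @IsAffineHom) A.hom q inferInstance
  have hLa' : CohB1.IsAmple L' := by
    haveI : CompactSpace (A').left := QuasiCompact.compactSpace_of_compactSpace (A').hom
    exact RGLib.Lim8.isAmple_pullback_affine _ hLa
  have hfin := S12002.result k' A' L' hLa'
  haveI : IsMonHom lam' := BcComp.isMonHom_bc_map q lam
  haveI : IsCommMonObj (A') := isCommMonObj_of_isProper_of_geometricallyIntegral (A')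
  haveI : IsCommMonObj (B') := isCommMonObj_of_isProper_of_geometricallyIntegral (B')
  have hone : pl (lift (𝟙 A') (1 : A' ⟶ B')) (PicF.cl (bcMod q P)) = 1 := by
    rw [show lift (𝟙 A') (1 : A' ⟶ B') = lift (𝟙 A') (toUnit A') ≫ A' ◁ (1 : 𝟙_ _ ⟶ B') by
      rw [lift_whiskerLeft, MonObj.comp_one], ← pl_pl,
      show pl (A' ◁ (1 : 𝟙_ _ ⟶ B')) (PicF.cl (bcMod q P)) = 1 from (triv_iff _).1 (bc_hone q hφ hξ _), map_one]
  have hker : Set.Finite {a : 𝟙_ (Over (Spec (CommRingCat.of k'))) ⟶ A' | a ≫ lam' = 1} := hfin.subset fun a ha => by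
    have h1 := hslice a
    rw [show a ≫ lam' = 1 from ha, MonObj.comp_one, hone] at h1
    have h2 := congrArg (· * l') h1
    simp only [_root_.one_mul, _root_.mul_assoc] at h2
    rw [_root_.mul_comm d' l', hld', _root_.mul_one] at h2
    exact PicMul.cl_eq_iff.1 h2.symm
  obtain ⟨g, hg⟩ : ∃ g : ℕ, topologicalKrullDim (A').left = g := by
    haveI : IsIntegral (A').left := GeometricallyIntegral.isIntegral_of_subsingleton (A').hom
    exact ⟨_, VarDim.topologicalKrullDim_eq_deg_genericPoint (A').hom⟩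
  haveI : HasInjectiveResolutions (A' ⊗ B').left.Modules := by
    haveI : IsLocallyNoetherian (A').left := LocallyOfFiniteType.isLocallyNoetherian (A').hom
    exact KFlatLib.hasInjectiveResolutions_modules
  have hdim : topologicalKrullDim (B').left ≤ topologicalKrullDim (A').left := by
    rw [hg]
    exact rpush_dim_le g (bc_hone q hφ hξ) (bc_hadd q hφ hP hξ) (bc_huniv q hφ hξ) hg
      (PicClLib.isInvertible_pullback _ hP)
  exact AVIndex.isogeny_of_finite_ker lam' hker hdim

end Groth.Agent.AVField
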