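import Groth.Agent.AVDualCx.Exists
import Groth.Agent.LineDesc.RelPic
import Groth.Agent.Lib.AVPicZero
import Groth.Agent.Lib.PicZeroPrim
import Groth.Agent.Lib.AVAmple
import Groth.Agent.GrpSchLib.AntiAffine

/-!
# Existence of a Poincaré module over any field
-/

noncomputable section

set_option autoImplicit false
set_option linter.style.haveILetI false
set_option linter.unusedSectionVars false
set_option backward.isDefEq.respectTransparency false
set_option backward.isDefEq.respectTransparency.types false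
set_option maxHeartbeats 1000000

universe u

open CategoryTheory CategoryTheory.Limits MonoidalCategory CartesianMonoidalCategory MonObj AlgebraicGeometry TopologicalSpace

namespace Groth.Agent.AVField

open Groth.Agent Groth.Agent.LineDesc Groth.Agent.LineDesc.Rig Groth.Agent.AVPair Groth.Agent.AVDual Groth.Agent.AVDualCx
open scoped Groth.Agent.H23.PicMul

variable {k : Type u} [Field k]

/-- A geometric point lifts along a surjection of finite presentation from a disjoint union. -/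
theorem exists_lift_point {X : Scheme.{u}} {J : Type u} {Ui : J → Scheme.{u}} (U : ∐ Ui ⟶ X) [Surjective U]
    [LocallyOfFiniteType U] (hcov : ∀ p : (∐ Ui : Scheme.{u}), ∃ t w, Sigma.ι Ui t w = p)
    {Ω : Type u} [Field Ω] [IsAlgClosed Ω] (σ : Spec (CommRingCat.of Ω) ⟶ X) :
    ∃ (t : J) (τ : Spec (CommRingCat.of Ω) ⟶ Ui t), (τ ≫ Sigma.ι Ui t) ≫ U = σ := by
  let π := pullback.snd U σ
  haveI : Surjective π := inferInstanceAs (Surjective (pullback.snd U σ))
  haveI : LocallyOfFiniteType π := inferInstanceAs (LocallyOfFiniteType (pullback.snd U σ))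
  haveI : JacobsonSpace ↥(pullback U σ) := LocallyOfFiniteType.jacobsonSpace π
  obtain ⟨z, hz⟩ := π.surjective (IsLocalRing.closedPoint Ω)
  obtain ⟨w, -, hw⟩ := nonempty_inter_closedPoints (Z := (Set.univ : Set ↥(pullback U σ))) ⟨z, trivial⟩
    isClosed_univ.isLocallyClosed
  let τ₀ := pointOfClosedPoint π w (mem_closedPoints_iff.1 hw) ≫ pullback.fst U σ
  obtain ⟨t, v, hv⟩ := hcov (τ₀ (IsLocalRing.closedPoint Ω))
  have hr : Set.range τ₀ ⊆ Set.range (Sigma.ι Ui t) := by
    rintro _ ⟨x, rfl⟩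
    haveI : Subsingleton ↥(Spec (CommRingCat.of Ω)) := inferInstanceAs (Subsingleton (PrimeSpectrum Ω))
    exact ⟨v, hv.trans (congrArg _ (Subsingleton.elim _ _))⟩
  refine ⟨t, IsOpenImmersion.lift (Sigma.ι Ui t) τ₀ hr, ?_⟩
  rw [IsOpenImmersion.lift_fac, Category.assoc, pullback.condition, ← Category.assoc,
    pointOfClosedPoint_comp, Category.id_comp]

/-- Triviality up to algebraic equivalence on a geometric fibre can be tested after lifting the point. -/
theorem algTrivial_of_lift {A T T' : Over (Spec (CommRingCat.of k))} (g : T' ⟶ T)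
    {L : (PicF.XT A.hom T).Modules} {c : PicF.Cl (PicF.XT A.hom T')}
    {Ω : Type u} [Field Ω] [IsAlgClosed Ω] {σ : Spec (CommRingCat.of Ω) ⟶ T.left}
    (τ : Spec (CommRingCat.of Ω) ⟶ T'.left) (hτ : τ ≫ g.left = σ)
    (hc : PicF.pullCl (PicF.XTmap A.hom g) (PicF.cl L) = c) (h : AbDual.IsPicZeroCl A.hom T' c) :
    @Pic13.IsAlgEquivZero Ω _ (pullback (PicF.XTproj A.hom T) σ) ⟨pullback.snd _ σ⟩
      ((Scheme.Modules.pullback (pullback.fst (PicF.XTproj A.hom T) σ)).obj L) := by
  obtain ⟨L', hL', -, hLt⟩ := h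
  have hr : Set.range τ.base = {τ (IsLocalRing.closedPoint Ω)} := by
    haveI : Subsingleton ↥(Spec (CommRingCat.of Ω)) := inferInstanceAs (Subsingleton (PrimeSpectrum Ω))
    exact Set.eq_singleton_iff_unique_mem.2 ⟨⟨_, rfl⟩, by rintro _ ⟨a, rfl⟩; rw [Subsingleton.elim a (IsLocalRing.closedPoint Ω)]⟩
  have h0 := hLt _ Ω τ hr
  let f₁ : pullback (PicF.XTproj A.hom T) σ ⟶ PicF.XT A.hom T' :=
    pullback.lift (pullback.fst _ σ ≫ pullback.fst A.hom T.hom) (pullback.snd _ σ ≫ τ) (by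
      rw [Category.assoc, pullback.condition, Category.assoc, ← Over.w g, reassoc_of% hτ]
      exact pullback.condition_assoc _)
  have hf₁ : f₁ ≫ PicF.XTmap A.hom g = pullback.fst _ σ := by
    rw [AVDual.xtMap_eq]
    refine pullback.hom_ext ?_ ?_
    · rw [Category.assoc]
      show f₁ ≫ (A ◁ g).left ≫ (fst A T).left = _
      rw [← Over.comp_left, whiskerLeft_fst]
      exact pullback.lift_fst _ _ _
    · rw [Category.assoc]
      show f₁ ≫ (A ◁ g).left ≫ (snd A T).left = _
      rw [← Over.comp_left, whiskerLeft_snd, Over.comp_left, ← Category.assoc,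
        show f₁ ≫ (snd A T').left = pullback.snd _ σ ≫ τ from pullback.lift_snd _ _ _, Category.assoc, hτ]
      exact pullback.condition.symm
  let e : pullback (PicF.XTproj A.hom T) σ ⟶ pullback (PicF.XTproj A.hom T') τ :=
    pullback.lift f₁ (pullback.snd _ σ) (pullback.lift_snd _ _ _)
  have h1 := AVDual.algEquivZero_pullback _ _ e (pullback.lift_snd _ _ _) h0
  refine @AVDual.algEquivZero_of_iso Ω _ _ ⟨pullback.snd _ σ⟩ _ _ ?_ h1
  refine ((PicGrp.cl_eq_cl_iff _ _).1 ?_).some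
  show PicF.pullCl e (PicF.pullCl _ (PicF.cl L')) = PicF.pullCl _ (PicF.cl L)
  rw [PicClLib.pullCl_comp, show e ≫ pullback.fst _ τ = f₁ from pullback.lift_fst _ _ _, hL', ← hc,
    PicClLib.pullCl_comp, hf₁]

variable {A At : Over (Spec (CommRingCat.of k))} [GrpObj A] [IsProper A.hom] [Smooth A.hom]
  [GeometricallyConnected A.hom] [GrpObj At] [IsProper At.hom]
  {φ : ∀ T : Over (Spec (CommRingCat.of k)), PicF.Cl (PicF.XT A.hom T) → (T ⟶ At)}
  (hφ : AbDual.IsDualAV Scheme.fppfPrecoverage A At φ)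

include hφ in
/-- **A Poincaré module exists over any field.** -/
theorem exists_poincare :
    ∃ P : (PicF.XT A.hom At).Modules, PicF.IsInvertible P ∧ AbDual.IsPoincareCl A At φ (PicF.cl P) := by
  haveI : GeometricallyIntegral A.hom := AVDual.geometricallyIntegral_of_smooth A
  haveI : IsCommMonObj A := isCommMonObj_of_isProper_of_geometricallyIntegral A
  have ha : ∀ (Z : Scheme.{u}) (z : Z ⟶ Spec (CommRingCat.of k)),
      Function.Bijective (pullback.snd A.hom z).appTop := fun Z z =>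
    GrpSchLib.AntiAffine.bijective_appTop_snd (H23.Rigid.bijective_appTop A.hom) z
  obtain ⟨R, hR, hRe⟩ := hφ.relPic.locallySurjective At (𝟙 At)
  obtain ⟨Ui, ui, hui, hfl, hfp, hsu⟩ := exists_small_cover hR
  haveI := hfl
  haveI := hfp
  haveI := hsu
  have hpc : ∀ t : At.left, ∃ d : PicF.Cl (PicF.XT A.hom (AbDual.ovr At (ui t))),
      AbDual.IsPicZeroCl A.hom _ d ∧ PicF.pullCl (PicF.secT A.hom η[A].left (Over.w η[A]) _) d = 1 ∧
        φ _ d = AbDual.ovrHom At (ui t) := fun t => by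
    obtain ⟨c, hc, hφc⟩ := hRe (ui t) (hui t)
    obtain ⟨d, hd, hd1, hd2⟩ := exists_rigid hφ hc
    exact ⟨d, hd, hd1, hd2.trans (hφc.trans (Category.comp_id _))⟩
  choose d hdz hd1 hd using hpc
  let U := Sigma.desc ui
  obtain ⟨M, hM, hMd⟩ := exists_invertible_of_disjoint (fun t => PicF.XTmap A.hom (pieceι ui t))
    (cover_pieces ui) (disjoint_pieces ui) d (fun t => AbDualBase.pz_invertible (hdz t))
  have htriv : PicF.pullCl (PicF.secT A.hom η[A].left (Over.w η[A]) (U1 U)) (PicF.cl M) = 1 := by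
    refine cl_eq_of_disjoint (fun t => Sigma.ι Ui t) (fun p => ?_)
      (fun t t' h => disjoint_opensRange_sigmaι Ui t t' h)
      (L := (Scheme.Modules.pullback (PicF.secT A.hom η[A].left (Over.w η[A]) (U1 U))).obj M)
      (M := Coh.structureModule _) fun t => ?_
    · obtain ⟨⟨t, z⟩, hz⟩ := (sigmaMk Ui).surjective p
      rw [sigmaMk_mk] at hz
      exact ⟨t, z, hz⟩
    · show PicF.pullCl (pieceι ui t).left (PicF.pullCl _ (PicF.cl M)) = _
      rw [← secT_pullCl, hMd, ← H23.PicMul.one_def, H23.PicMul.pullCl_one]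
      exact hd1 t
  let cV : PicF.Rig A.hom η[A].left (Over.w η[A]) (U1 U) := ⟨PicF.cl M, ⟨M, rfl, hM⟩, htriv⟩
  have hglue : PicF.pullCl (PicF.XTmap A.hom (p1 U)) cV.1 = PicF.pullCl (PicF.XTmap A.hom (p2 U)) cV.1 := by
    refine cl_eq_of_disjoint (fun q => PicF.XTmap A.hom (piece₂ ui q)) (cover_pieces₂ ui) (disjoint_pieces₂ ui)
      (L := (Scheme.Modules.pullback (PicF.XTmap A.hom (p1 U))).obj M)
      (M := (Scheme.Modules.pullback (PicF.XTmap A.hom (p2 U))).obj M) fun q => ?_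
    show PicF.pullCl _ (PicF.pullCl (PicF.XTmap A.hom (p1 U)) (PicF.cl M)) =
      PicF.pullCl _ (PicF.pullCl (PicF.XTmap A.hom (p2 U)) (PicF.cl M))
    rw [pullCl_XTmap_comp, pullCl_XTmap_comp, piece₂_p1, piece₂_p2, ← pullCl_XTmap_comp, ← pullCl_XTmap_comp,
      hMd, hMd]
    let g₁ := AbDual.ovrHom (AbDual.ovr At (ui q.1)) (pullback.fst (ui q.1) (ui q.2))
    let g₂ := piece₂snd ui q
    refine PicZeroPrim.eq_of_phi hφ (AbDualBase.pz_xtMap g₁ (hdz q.1)) (AbDualBase.pz_xtMap g₂ (hdz q.2)) ?_ ?_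
    · rw [hφ.relPic.natural _ _ g₁ _ (hdz q.1), hφ.relPic.natural _ _ g₂ _ (hdz q.2), hd, hd]
      exact Over.OverMorphism.ext pullback.condition
    · rw [secT_pullCl, secT_pullCl, hd1, hd1, H23.PicMul.pullCl_one, H23.PicMul.pullCl_one]
  obtain ⟨c, hc⟩ := exists_rig ha U cV hglue
  obtain ⟨P, hPc, hP⟩ := c.2.1
  -- pieces of the descended class
  have hpiece : ∀ t, PicF.pullCl (PicF.XTmap A.hom (AbDual.ovrHom At (ui t))) c.1 = d t := fun t => by
    rw [← pieceι_ovrHom, ← pullCl_XTmap_comp]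
    show PicF.pullCl _ (PicF.pullCl (cov U) c.1) = _
    rw [hc, hMd]
  -- geometric points lift to the cover
  have hz : AbDual.IsPicZeroCl A.hom At c.1 := by
    refine ⟨P, hPc, hP, fun z Ω _ _ σ hσ => ?_⟩
    obtain ⟨t, τ, hτ⟩ := exists_lift_point U (fun p => by
      obtain ⟨⟨t, w⟩, hw⟩ := (sigmaMk Ui).surjective p
      rw [sigmaMk_mk] at hw
      exact ⟨t, w, hw⟩) σ
    have hτ' : τ ≫ ui t = σ := by
      rw [← hτ, Category.assoc, show Sigma.ι Ui t ≫ U = ui t from colimit.ι_desc _ _]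
    refine algTrivial_of_lift (AbDual.ovrHom At (ui t)) τ hτ' ?_ (hdz t)
    rw [hPc]
    exact hpiece t
  refine ⟨P, hP, hPc.symm ▸ hz, ?_, hPc.symm ▸ c.2.2⟩
  rw [hPc]
  refine Over.OverMorphism.ext ?_
  haveI : Epi U := Flat.epi_of_flat_of_surjective _
  rw [← cancel_epi U]
  refine Sigma.hom_ext _ _ fun t => ?_
  have h1 : pieceι ui t ≫ AbDual.ovrHom At U ≫ φ At c.1 = pieceι ui t ≫ AbDual.ovrHom At U := by
    rw [← Category.assoc, pieceι_ovrHom, ← hφ.relPic.natural _ _ _ _ hz, hpiece, hd]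
  have h2 := congrArg CommaMorphism.left h1
  rw [Over.id_left, Category.comp_id]
  exact h2

end Groth.Agent.AVField
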