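import Groth.Agent.AVFieldDual.Isogeny
import Groth.Prelude.Def_AgPol

/-!
# Transporting families to and from a base change
-/

noncomputable section

set_option autoImplicit false
set_option linter.style.haveILetI false
set_option linter.unusedSectionVars false
set_option backward.isDefEq.respectTransparency false
set_option backward.isDefEq.respectTransparency.types false
set_option maxHeartbeats 1000000

universe u

open CategoryTheory CategoryTheory.Limits MonoidalCategory CartesianMonoidalCategory MonObj AlgebraicGeometry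

namespace Groth.Agent.AVField

open Groth.Agent Groth.Agent.H23 Groth.Agent.AVPair
open scoped Groth.Agent.H23.PicMul

variable {S S' : Scheme.{u}} (q : S' ⟶ S)

theorem bcXTIso_inv_proj (A : Over S) (U : Over S') :
    (AgPol.bcXTIso q A U).inv ≫ PicF.XTproj (Red.bc q A).hom U = PicF.XTproj A.hom (Over.mk (U.hom ≫ q)) := by
  rw [Iso.inv_comp_eq]
  exact (pullbackLeftPullbackSndIso_hom_snd A.hom q U.hom).symm

/-- A family algebraically trivial on geometric fibres stays so when read over the original base. -/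
theorem pz_transport (A : Over S) (U : Over S') {c : PicF.Cl (PicF.XT (Red.bc q A).hom U)}
    (h : AbDual.IsPicZeroCl (Red.bc q A).hom U c) :
    AbDual.IsPicZeroCl A.hom (Over.mk (U.hom ≫ q)) (PicF.pullCl (AgPol.bcXTIso q A U).inv c) := by
  obtain ⟨L, rfl, hL, hLt⟩ := h
  refine ⟨_, rfl, PicClLib.isInvertible_pullback _ hL, fun x Ω _ _ σ hσ => ?_⟩
  let e : pullback (PicF.XTproj A.hom (Over.mk (U.hom ≫ q))) σ ⟶ pullback (PicF.XTproj (Red.bc q A).hom U) σ :=
    pullback.lift (pullback.fst _ σ ≫ (AgPol.bcXTIso q A U).inv) (pullback.snd _ σ)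
      ((Category.assoc _ _ _).trans
        ((congrArg (pullback.fst (PicF.XTproj A.hom (Over.mk (U.hom ≫ q))) σ ≫ ·) (bcXTIso_inv_proj q A U)).trans
          pullback.condition))
  have h1 := AVDual.algEquivZero_pullback _ _ e (pullback.lift_snd _ _ _) (hLt x Ω σ hσ)
  refine @AVDual.algEquivZero_of_iso Ω _ _ ⟨pullback.snd _ σ⟩ _ _ ?_ h1
  refine ((PicGrp.cl_eq_cl_iff _ _).1 ?_).some
  show PicF.pullCl e (PicF.pullCl _ (PicF.cl L)) = PicF.pullCl _ (PicF.pullCl _ (PicF.cl L))
  rw [PicClLib.pullCl_comp, PicClLib.pullCl_comp]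
  exact congrArg (fun m => PicF.pullCl m (PicF.cl L)) (pullback.lift_fst _ _ _)

/-- The map of parameters read over the original base. -/
abbrev mapOver {U V : Over S'} (g : U ⟶ V) : Over.mk (U.hom ≫ q) ⟶ Over.mk (V.hom ≫ q) :=
  Over.homMk g.left (by
    show g.left ≫ V.hom ≫ q = U.hom ≫ q
    rw [← Category.assoc, Over.w g])

theorem bcXTIso_inv_fst (A : Over S) (U : Over S') :
    (AgPol.bcXTIso q A U).inv ≫ pullback.fst (Red.bc q A).hom U.hom ≫ pullback.fst A.hom q =
      pullback.fst A.hom (U.hom ≫ q) := by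
  rw [Iso.inv_comp_eq]
  exact (pullbackLeftPullbackSndIso_hom_fst A.hom q U.hom).symm

theorem bc_cross_eq {A B : Over S} (f : A ⟶ B) {U V : Over S'} (g : U ⟶ V) :
    (AgPol.bcXTIso q A U).inv ≫ (((Over.pullback q).map f) ⊗ₘ g).left =
      AbDual.bcMap f (Over.mk (U.hom ≫ q)) ≫ PicF.XTmap B.hom (mapOver q g) ≫ (AgPol.bcXTIso q B V).inv := by
  have hb := bcXTIso_inv_proj q A U
  have ha := bcXTIso_inv_fst q A U
  refine pullback.hom_ext (pullback.hom_ext ?_ ?_) ?_
  · show _ ≫ (fst (Red.bc q B) V).left ≫ pullback.fst B.hom q = _ ≫ (fst (Red.bc q B) V).left ≫ pullback.fst B.hom q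
    simp only [Category.assoc]
    rw [← Category.assoc ((((Over.pullback q).map f) ⊗ₘ g).left), ← Over.comp_left, tensorHom_fst, Over.comp_left,
      Category.assoc, show ((Over.pullback q).map f).left ≫ pullback.fst B.hom q = pullback.fst A.hom q ≫ f.left from
      pullback.lift_fst _ _ _,
      show (AgPol.bcXTIso q B V).inv ≫ (fst (Red.bc q B) V).left ≫ pullback.fst B.hom q =
        pullback.fst B.hom (V.hom ≫ q) from bcXTIso_inv_fst q B V,
      ← Category.assoc (fst (Red.bc q A) U).left, ← Category.assoc,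
      show (AgPol.bcXTIso q A U).inv ≫ (fst (Red.bc q A) U).left ≫ pullback.fst A.hom q =
        pullback.fst A.hom (U.hom ≫ q) from ha]
    simp [AbDual.bcMap, PicF.XTmap]
  · show (_ ≫ (fst (Red.bc q B) V).left) ≫ (Red.bc q B).hom = (_ ≫ (fst (Red.bc q B) V).left) ≫ (Red.bc q B).hom
    rw [Category.assoc, Category.assoc, Over.w (fst (Red.bc q B) V)]
    rw [Category.assoc, Over.w (((Over.pullback q).map f) ⊗ₘ g), ← Over.w (snd (Red.bc q A) U)]
    simp only [Category.assoc]
    rw [show (fst (Red.bc q B) V).left ≫ (Red.bc q B).hom = (snd (Red.bc q B) V).left ≫ V.hom from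
        pullback.condition, ← Category.assoc (AgPol.bcXTIso q A U).inv,
      show (AgPol.bcXTIso q A U).inv ≫ (snd (Red.bc q A) U).left = PicF.XTproj A.hom (Over.mk (U.hom ≫ q)) from hb]
    try simp only [Category.assoc]
    rw [← Category.assoc (AgPol.bcXTIso q B V).inv,
      show (AgPol.bcXTIso q B V).inv ≫ (snd (Red.bc q B) V).left = PicF.XTproj B.hom (Over.mk (V.hom ≫ q)) from
      bcXTIso_inv_proj q B V]
    simp [AbDual.bcMap, PicF.XTmap, PicF.XTproj, Over.w g]
  · show _ ≫ (snd (Red.bc q B) V).left = _ ≫ (snd (Red.bc q B) V).left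
    simp only [Category.assoc]
    rw [← Over.comp_left, tensorHom_snd, Over.comp_left, ← Category.assoc,
      show (AgPol.bcXTIso q A U).inv ≫ (snd (Red.bc q A) U).left = PicF.XTproj A.hom (Over.mk (U.hom ≫ q)) from hb,
      show (AgPol.bcXTIso q B V).inv ≫ (snd (Red.bc q B) V).left = PicF.XTproj B.hom (Over.mk (V.hom ≫ q)) from
      bcXTIso_inv_proj q B V]
    simp [AbDual.bcMap, PicF.XTmap, PicF.XTproj]

/-- Pullback of base-changed dual data along a homomorphism and its transpose. -/
theorem bcDual_pull {A At B Bt : Over S} {φA : AgPol.DualMap A At} {φB : AgPol.DualMap B Bt}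
    (hnat : ∀ (T T' : Over S) (g : T' ⟶ T) (c : PicF.Cl (PicF.XT B.hom T)), AbDual.IsPicZeroCl B.hom T c →
      φB T' (PicF.pullCl (PicF.XTmap B.hom g) c) = g ≫ φB T c)
    {f : A ⟶ B} {ft : Bt ⟶ At} (hft : AbDual.IsTranspose f φA φB ft)
    {U V : Over S'} (g : U ⟶ V) {c : PicF.Cl (PicF.XT (Red.bc q B).hom V)}
    (hc : AbDual.IsPicZeroCl (Red.bc q B).hom V c) :
    AgPol.bcDual q A At φA U (PicF.pullCl (((Over.pullback q).map f) ⊗ₘ g).left c) =
      g ≫ AgPol.bcDual q B Bt φB V c ≫ (Over.pullback q).map ft := by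
  let d := PicF.pullCl (AgPol.bcXTIso q B V).inv c
  have hd := pz_transport q B V hc
  have hd' := AbDualBase.pz_xtMap (mapOver q g) hd
  have key : φA (Over.mk (U.hom ≫ q)) (PicF.pullCl (AgPol.bcXTIso q A U).inv
      (PicF.pullCl (((Over.pullback q).map f) ⊗ₘ g).left c)) =
      mapOver q g ≫ φB (Over.mk (V.hom ≫ q)) d ≫ ft := by
    rw [← Category.assoc, ← hnat _ _ _ d hd, ← hft _ _ hd']
    congr 1
    show _ = PicF.pullCl _ (PicF.pullCl _ (PicF.pullCl _ c))
    simp only [PicClLib.pullCl_comp]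
    exact congrArg (fun m => PicF.pullCl m c) (bc_cross_eq q f g)
  refine Over.OverMorphism.ext (pullback.hom_ext ?_ ?_)
  · refine (pullback.lift_fst _ _ _).trans ((congrArg CommaMorphism.left key).trans ?_)
    simp [AgPol.bcDual, d]
  · exact (Over.w (AgPol.bcDual q A At φA U _)).trans
      (Over.w (g ≫ AgPol.bcDual q B Bt φB V c ≫ (Over.pullback q).map ft)).symm

end Groth.Agent.AVField
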