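import Groth.Agent.AVFieldDual.BcDual

/-!
# The base change of a dual is a dual
-/

noncomputable section

set_option autoImplicit false
set_option linter.style.haveILetI false
set_option linter.unusedSectionVars false
set_option backward.isDefEq.respectTransparency false
set_option backward.isDefEq.respectTransparency.types false
set_option maxHeartbeats 1000000

universe u

open CategoryTheory CategoryTheory.Limits MonoidalCategory CartesianMonoidalCategory MonObj AlgebraicGeometry

namespace Groth.Agent.AVField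

open Groth.Agent Groth.Agent.H23 Groth.Agent.AVDualCx
open scoped Groth.Agent.H23.PicMul

variable {S S' : Scheme.{u}} (q : S' ⟶ S) {A At : Over S}

theorem bcXTIso_inv_map (A : Over S) {U V : Over S'} (g : U ⟶ V) :
    (AgPol.bcXTIso q A U).inv ≫ PicF.XTmap (Red.bc q A).hom g =
      PicF.XTmap A.hom (mapOver q g) ≫ (AgPol.bcXTIso q A V).inv := by
  rw [Iso.inv_comp_eq, ← Category.assoc, Iso.eq_comp_inv]
  refine pullback.hom_ext ?_ ?_
  · simp [AgPol.bcXTIso, PicF.XTmap]
  · simp [AgPol.bcXTIso, PicF.XTmap]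

/-- A family algebraically trivial on geometric fibres stays so when read over the new base. -/
theorem pz_transport' (A : Over S) (U : Over S') {c : PicF.Cl (PicF.XT A.hom (Over.mk (U.hom ≫ q)))}
    (h : AbDual.IsPicZeroCl A.hom (Over.mk (U.hom ≫ q)) c) :
    AbDual.IsPicZeroCl (Red.bc q A).hom U (PicF.pullCl (AgPol.bcXTIso q A U).hom c) := by
  obtain ⟨L, rfl, hL, hLt⟩ := h
  refine ⟨_, rfl, PicClLib.isInvertible_pullback _ hL, fun x Ω _ _ σ hσ => ?_⟩
  have hp : (AgPol.bcXTIso q A U).hom ≫ PicF.XTproj A.hom (Over.mk (U.hom ≫ q)) =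
      PicF.XTproj (Red.bc q A).hom U := pullbackLeftPullbackSndIso_hom_snd A.hom q U.hom
  let e : pullback (PicF.XTproj (Red.bc q A).hom U) σ ⟶ pullback (PicF.XTproj A.hom (Over.mk (U.hom ≫ q))) σ :=
    pullback.lift (pullback.fst _ σ ≫ (AgPol.bcXTIso q A U).hom) (pullback.snd _ σ)
      ((Category.assoc _ _ _).trans
        ((congrArg (pullback.fst (PicF.XTproj (Red.bc q A).hom U) σ ≫ ·) hp).trans pullback.condition))
  have h1 := AVDual.algEquivZero_pullback _ _ e (pullback.lift_snd _ _ _) (hLt x Ω σ hσ)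
  refine @AVDual.algEquivZero_of_iso Ω _ _ ⟨pullback.snd _ σ⟩ _ _ ?_ h1
  refine ((PicGrp.cl_eq_cl_iff _ _).1 ?_).some
  show PicF.pullCl e (PicF.pullCl _ (PicF.cl L)) = PicF.pullCl _ (PicF.pullCl _ (PicF.cl L))
  rw [PicClLib.pullCl_comp, PicClLib.pullCl_comp]
  exact congrArg (fun m => PicF.pullCl m (PicF.cl L)) (pullback.lift_fst _ _ _)

theorem bcDual_fst (φ : AgPol.DualMap A At) (U : Over S') (c : PicF.Cl (PicF.XT (Red.bc q A).hom U)) :
    (AgPol.bcDual q A At φ U c).left ≫ pullback.fst At.hom q =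
      (φ (Over.mk (U.hom ≫ q)) (PicF.pullCl (AgPol.bcXTIso q A U).inv c)).left :=
  pullback.lift_fst _ _ _

theorem mul_bc_fst [GrpObj At] {U : Over S'} (a b : U ⟶ Red.bc q At) (a' b' : Over.mk (U.hom ≫ q) ⟶ At)
    (ha : a.left ≫ pullback.fst At.hom q = a'.left) (hb : b.left ≫ pullback.fst At.hom q = b'.left) :
    (a * b).left ≫ pullback.fst At.hom q = (a' * b').left := by
  show (lift a b ≫ μ[Red.bc q At]).left ≫ prj q At = (lift a' b' ≫ μ[At]).left
  have h : (lift a b).left ≫ prj₂ q At At = (lift a' b').left := by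
    refine pullback.hom_ext ?_ ?_
    · rw [Category.assoc]
      refine (congrArg ((lift a b).left ≫ ·) (pullback.lift_fst _ _ _)).trans ?_
      refine ((Category.assoc _ _ _).symm.trans ?_).trans
        (congrArg CommaMorphism.left (lift_fst a' b')).symm
      exact (congrArg (· ≫ prj q At) (congrArg CommaMorphism.left (lift_fst a b))).trans ha
    · rw [Category.assoc]
      refine (congrArg ((lift a b).left ≫ ·) (pullback.lift_snd _ _ _)).trans ?_
      refine ((Category.assoc _ _ _).symm.trans ?_).trans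
        (congrArg CommaMorphism.left (lift_snd a' b')).symm
      exact (congrArg (· ≫ prj q At) (congrArg CommaMorphism.left (lift_snd a b))).trans hb
  rw [Over.comp_left, Category.assoc, mul_prj, ← Category.assoc, h, ← Over.comp_left]

/-- **The base change of a dual is a dual.** -/
theorem isDualAV_bc [GrpObj At] {φ : AgPol.DualMap A At} (h : AbDual.IsDualAV Scheme.fppfPrecoverage A At φ) :
    AbDual.IsDualAV Scheme.fppfPrecoverage (Red.bc q A) (Red.bc q At) (AgPol.bcDual q A At φ) := by
  refine ⟨⟨fun T T' g c hc => ?_, fun T g => ?_, fun T c c' hc hc' e => ?_⟩, fun T L M hL hM => ?_⟩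
  · refine Over.OverMorphism.ext (pullback.hom_ext ?_ ?_)
    · rw [bcDual_fst, Over.comp_left, Category.assoc, bcDual_fst, PicClLib.pullCl_comp, bcXTIso_inv_map,
        ← PicClLib.pullCl_comp, h.relPic.natural _ _ (mapOver q g) _ (pz_transport q A T hc)]
      rfl
    · exact (Over.w _).trans (Over.w (g ≫ AgPol.bcDual q A At φ T c)).symm
  · let g' : Over.mk (T.hom ≫ q) ⟶ At := Over.homMk (g.left ≫ pullback.fst At.hom q) (by
      show _ = T.hom ≫ q
      rw [Category.assoc, pullback.condition, ← Category.assoc]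
      exact congrArg (· ≫ q) (Over.w g))
    obtain ⟨R, hR, hRe⟩ := h.relPic.locallySurjective _ g'
    refine ⟨R, hR, fun U u hu => ?_⟩
    obtain ⟨c, hc, hφc⟩ := hRe u hu
    let j : Over.mk ((AbDual.ovr T u).hom ≫ q) ⟶ AbDual.ovr (Over.mk (T.hom ≫ q)) u :=
      Over.homMk (𝟙 U) ((Category.id_comp _).trans (Category.assoc _ _ _).symm)
    let c₁ := PicF.pullCl (PicF.XTmap A.hom j) c
    have hc₁ := AbDualBase.pz_xtMap j hc
    refine ⟨PicF.pullCl (AgPol.bcXTIso q A (AbDual.ovr T u)).hom c₁, pz_transport' q A _ hc₁, ?_⟩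
    refine Over.OverMorphism.ext (pullback.hom_ext ?_ ?_)
    · rw [bcDual_fst, PicClLib.pullCl_comp, Iso.inv_hom_id, PicClLib.pullCl_id, h.relPic.natural _ _ j _ hc, hφc]
      show 𝟙 U ≫ u ≫ g.left ≫ pullback.fst At.hom q = (u ≫ g.left) ≫ pullback.fst At.hom q
      rw [Category.id_comp, Category.assoc]
    · exact (Over.w _).trans (Over.w (AbDual.ovrHom T u ≫ g)).symm
  · have e' : φ (Over.mk (T.hom ≫ q)) (PicF.pullCl (AgPol.bcXTIso q A T).inv c) =
        φ (Over.mk (T.hom ≫ q)) (PicF.pullCl (AgPol.bcXTIso q A T).inv c') :=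
      Over.OverMorphism.ext (by rw [← bcDual_fst, ← bcDual_fst, e])
    obtain ⟨R, hR, hRe⟩ := h.relPic.locallyInjective _ _ _ (pz_transport q A T hc) (pz_transport q A T hc') e'
    refine ⟨R, hR, fun U u hu => ?_⟩
    let j : Over.mk ((AbDual.ovr T u).hom ≫ q) ⟶ AbDual.ovr (Over.mk (T.hom ≫ q)) u :=
      Over.homMk (𝟙 U) ((Category.id_comp _).trans (Category.assoc _ _ _).symm)
    have hm : mapOver q (AbDual.ovrHom T u) = j ≫ AbDual.ovrHom (Over.mk (T.hom ≫ q)) u :=
      Over.OverMorphism.ext (Category.id_comp u).symm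
    have key := congrArg (PicF.pullCl (PicF.XTmap A.hom j)) (hRe u hu)
    simp only [PicClLib.pullCl_comp] at key
    rw [← Category.assoc, ← PicClLib.XTmap_comp, ← hm] at key
    have key' := congrArg (PicF.pullCl (AgPol.bcXTIso q A (AbDual.ovr T u)).hom) key
    simp only [PicClLib.pullCl_comp, Category.assoc, ← bcXTIso_inv_map, Iso.hom_inv_id_assoc] at key'
    exact key'
  · refine Over.OverMorphism.ext (pullback.hom_ext ?_ ?_)
    · rw [bcDual_fst, mul_bc_fst q _ _ _ _ (bcDual_fst q φ T _) (bcDual_fst q φ T _)]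
      congr 1
      have h1 := h.mul _ ((Scheme.Modules.pullback (AgPol.bcXTIso q A T).inv).obj L)
        ((Scheme.Modules.pullback (AgPol.bcXTIso q A T).inv).obj M) (pz_transport q A T hL) (pz_transport q A T hM)
      refine Eq.trans ?_ h1
      congr 1
      rw [PicMul.cl_tensor, PicMul.pullCl_mul, PicMul.cl_tensor]
      rfl
    · exact (Over.w _).trans (Over.w _).symm

end Groth.Agent.AVField
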