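import Groth.Agent.AVFieldDual.DualBC
import Groth.Agent.TorsPtsLib.BC

/-!
# Polarisations are symmetric over any base
-/

noncomputable section

set_option autoImplicit false
set_option linter.style.haveILetI false
set_option linter.unusedSectionVars false
set_option backward.isDefEq.respectTransparency false
set_option backward.isDefEq.respectTransparency.types false
set_option maxHeartbeats 1000000

universe u

open CategoryTheory CategoryTheory.Limits MonoidalCategory CartesianMonoidalCategory MonObj AlgebraicGeometry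

namespace Groth.Agent.AVBase

open Groth.Agent Groth.Agent.H23
open scoped Groth.Agent.H23.PicMul

variable {S : Scheme.{u}} {A At : Over S}

/-- Pullback of classes along morphisms over `S`. -/
abbrev pb {T T' : Over S} (f : T' ⟶ T) : PicF.Cl T.left →* PicF.Cl T'.left := PicMul.pullHom f.left

theorem pb_pb {T T' T'' : Over S} (g : T'' ⟶ T') (f : T' ⟶ T) (c : PicF.Cl T.left) : pb g (pb f c) = pb (g ≫ f) c :=
  PicClLib.pullCl_comp g.left f.left c

/-- The Lambda-module has the Mumford class. -/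
theorem cl_eq_mum {k : Type u} [Field k] {U : Over (Spec (CommRingCat.of k))} [GrpObj U]
    {L D : U.left.Modules} {N : (PicF.XT U.hom U).Modules}
    (hN : AgPol.IsLambdaSheaf (μ[U].left : PicF.XT U.hom U ⟶ U.left) (fst U U).left (snd U U).left L N)
    (hLD : PicF.cl L * PicF.cl D = 1) :
    (PicF.cl N : PicF.Cl (U ⊗ U).left) = AVField.mum (PicF.cl L) (PicF.cl D) := by
  obtain ⟨iso⟩ := hN
  have hrel : (PicF.cl N : PicF.Cl (U ⊗ U).left) * AVPair.pl (fst U U) (PicF.cl L) * AVPair.pl (snd U U) (PicF.cl L) =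
      AVPair.pl μ[U] (PicF.cl L) :=
    ((congrArg (· * _) (PicMul.cl_tensor _ _).symm).trans (PicMul.cl_tensor _ _).symm).trans
      (PicMul.cl_eq_iff.2 ⟨iso⟩)
  have hu : ∀ g : U ⊗ U ⟶ U, AVPair.pl g (PicF.cl L) * AVPair.pl g (PicF.cl D) = 1 := fun g => by
    rw [← map_mul, hLD, map_one]
  rw [AVField.mum, ← hrel]
  calc (PicF.cl N : PicF.Cl (U ⊗ U).left)
      = (PicF.cl N : PicF.Cl (U ⊗ U).left) * (AVPair.pl (fst U U) (PicF.cl L) * AVPair.pl (fst U U) (PicF.cl D)) *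
        (AVPair.pl (snd U U) (PicF.cl L) * AVPair.pl (snd U U) (PicF.cl D)) := by
          rw [hu, hu, _root_.mul_one, _root_.mul_one]
    _ = _ := by ac_rfl

theorem pb_id {T : Over S} (c : PicF.Cl T.left) : pb (𝟙 T) c = c := PicClLib.pullCl_id c

/-- Fibrewise triviality is tested on geometric points of the parameter scheme. -/
theorem pz_of_points {T : Over S} {c : PicF.Cl (A ⊗ T).left} (hc : PicF.IsInvertibleCl c)
    (h : ∀ (Ω : Type u) [Field Ω] [IsAlgClosed Ω] (σ : Spec (CommRingCat.of Ω) ⟶ S) (z : Over.mk σ ⟶ T),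
      AbDual.IsPicZeroCl A.hom (Over.mk σ) (pb (A ◁ z) c)) : AbDual.IsPicZeroCl A.hom T c := by
  obtain ⟨L, rfl, hL⟩ := hc
  refine ⟨L, rfl, hL, fun x Ω _ _ σ hσ => ?_⟩
  let z : Over.mk (σ ≫ T.hom) ⟶ T := Over.homMk σ rfl
  obtain ⟨L', hL', -, hLt⟩ := h Ω (σ ≫ T.hom) z
  have hr : Set.range (𝟙 (Spec (CommRingCat.of Ω)) : _ ⟶ _).base = {IsLocalRing.closedPoint Ω} := by
    haveI : Subsingleton ↥(Spec (CommRingCat.of Ω)) := inferInstanceAs (Subsingleton (PrimeSpectrum Ω))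
    exact Set.eq_singleton_iff_unique_mem.2 ⟨⟨_, rfl⟩, fun _ _ => Subsingleton.elim _ _⟩
  have h0 := hLt (IsLocalRing.closedPoint Ω) Ω (𝟙 _) hr
  let f₁ : pullback (PicF.XTproj A.hom T) σ ⟶ PicF.XT A.hom (Over.mk (σ ≫ T.hom)) :=
    pullback.lift (pullback.fst _ σ ≫ pullback.fst A.hom T.hom) (pullback.snd _ σ) (by
      rw [Category.assoc, pullback.condition]
      exact pullback.condition_assoc _)
  have hf₁ : f₁ ≫ (A ◁ z).left = pullback.fst _ σ := by
    refine pullback.hom_ext ?_ ?_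
    · rw [Category.assoc]
      show f₁ ≫ (A ◁ z).left ≫ (fst A T).left = _
      rw [← Over.comp_left, whiskerLeft_fst]
      exact pullback.lift_fst _ _ _
    · rw [Category.assoc]
      show f₁ ≫ (A ◁ z).left ≫ (snd A T).left = _
      rw [← Over.comp_left, whiskerLeft_snd, Over.comp_left, ← Category.assoc,
        show f₁ ≫ (snd A (Over.mk (σ ≫ T.hom))).left = pullback.snd _ σ from pullback.lift_snd _ _ _]
      exact pullback.condition.symm
  let e : pullback (PicF.XTproj A.hom T) σ ⟶ pullback (PicF.XTproj A.hom (Over.mk (σ ≫ T.hom))) (𝟙 _) :=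
    pullback.lift f₁ (pullback.snd _ σ) ((pullback.lift_snd _ _ _).trans (Category.comp_id _).symm)
  have h1 := AVDual.algEquivZero_pullback _ _ e (pullback.lift_snd _ _ _) h0
  refine @AVDual.algEquivZero_of_iso Ω _ _ ⟨pullback.snd _ σ⟩ _ _ ?_ h1
  refine ((PicGrp.cl_eq_cl_iff _ _).1 ?_).some
  show PicF.pullCl e (PicF.pullCl _ (PicF.cl L')) = PicF.pullCl _ (PicF.cl L)
  rw [PicClLib.pullCl_comp]
  refine (congrArg (fun m => PicF.pullCl m (PicF.cl L')) (pullback.lift_fst _ _ _)).trans ?_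
  rw [hL']
  show PicF.pullCl f₁ (PicF.pullCl (A ◁ z).left (PicF.cl L)) = _
  rw [PicClLib.pullCl_comp, hf₁]

theorem left_comp {B : Scheme.{u}} {V W Z : Over B} (m : V ⟶ W) (n : W ⟶ Z) : m.left ≫ n.left = (m ≫ n).left := rfl

/-- The transported swap of factors. -/
theorem swap_transport {Ω : Type u} [Field Ω] (t : Spec (CommRingCat.of Ω) ⟶ S)
    (p : Over.mk ((Red.bc t A).hom ≫ t) ⟶ A) (hp : p.left = pullback.fst A.hom t) :
    ((AgPol.bcXTIso t A (Red.bc t A)).inv ≫ (lift (snd (Red.bc t A) (Red.bc t A)) (fst (Red.bc t A) (Red.bc t A))).left ≫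
        (AgPol.bcXTIso t A (Red.bc t A)).hom) ≫ (A ◁ p).left = (A ◁ p).left ≫ (lift (snd A A) (fst A A)).left := by
  rw [Category.assoc, Iso.inv_comp_eq]
  have hf : (AgPol.bcXTIso t A (Red.bc t A)).hom ≫ pullback.fst A.hom ((Red.bc t A).hom ≫ t) =
      (fst (Red.bc t A) (Red.bc t A)).left ≫ pullback.fst A.hom t := pullbackLeftPullbackSndIso_hom_fst A.hom t _
  have hs : (AgPol.bcXTIso t A (Red.bc t A)).hom ≫ pullback.snd A.hom ((Red.bc t A).hom ≫ t) =
      (snd (Red.bc t A) (Red.bc t A)).left := pullbackLeftPullbackSndIso_hom_snd A.hom t _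
  have cl : ∀ {V W : Over S} (m : V ⟶ W) {Z : Over S} (n : W ⟶ Z), m.left ≫ n.left = (m ≫ n).left :=
    fun m _ n => rfl
  refine pullback.hom_ext ?_ ?_
  · simp only [Category.assoc]
    show (lift (snd (Red.bc t A) (Red.bc t A)) (fst (Red.bc t A) (Red.bc t A))).left ≫ _ ≫ (A ◁ p).left ≫ (fst A A).left =
      _ ≫ (A ◁ p).left ≫ (lift (snd A A) (fst A A)).left ≫ (fst A A).left
    rw [cl (A ◁ p) (fst A A), whiskerLeft_fst, cl (lift (snd A A) (fst A A)), lift_fst, cl (A ◁ p), whiskerLeft_snd]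
    show _ ≫ _ ≫ pullback.fst A.hom _ = _ ≫ pullback.snd A.hom _ ≫ p.left
    change _ ≫ _ ≫ pullback.fst A.hom ((Red.bc t A).hom ≫ t) = _ ≫ pullback.snd A.hom ((Red.bc t A).hom ≫ t) ≫ p.left
    rw [hp, hf, reassoc_of% hs, ← Category.assoc]
    exact congrArg (· ≫ pullback.fst A.hom t) ((left_comp _ (fst (Red.bc t A) (Red.bc t A))).trans
      (congrArg (fun m => m.left) (lift_fst (snd (Red.bc t A) (Red.bc t A)) (fst (Red.bc t A) (Red.bc t A)))))
  · simp only [Category.assoc]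
    show (lift (snd (Red.bc t A) (Red.bc t A)) (fst (Red.bc t A) (Red.bc t A))).left ≫ _ ≫ (A ◁ p).left ≫ (snd A A).left =
      _ ≫ (A ◁ p).left ≫ (lift (snd A A) (fst A A)).left ≫ (snd A A).left
    rw [cl (A ◁ p) (snd A A), whiskerLeft_snd, cl (lift (snd A A) (fst A A)), lift_snd, cl (A ◁ p), whiskerLeft_fst]
    show _ ≫ _ ≫ pullback.snd A.hom _ ≫ p.left = _ ≫ pullback.fst A.hom _
    change _ ≫ _ ≫ pullback.snd A.hom ((Red.bc t A).hom ≫ t) ≫ p.left = _ ≫ pullback.fst A.hom ((Red.bc t A).hom ≫ t)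
    rw [hp, hf, reassoc_of% hs, ← Category.assoc]
    exact congrArg (· ≫ pullback.fst A.hom t) ((left_comp _ (snd (Red.bc t A) (Red.bc t A))).trans
      (congrArg (fun m => m.left) (lift_snd (snd (Red.bc t A) (Red.bc t A)) (fst (Red.bc t A) (Red.bc t A)))))

variable [GrpObj A] in
/-- Pic⁰ classes at a geometric point form a monoid. -/
theorem pz_mul_point [IsProper A.hom] [Smooth A.hom] [GeometricallyConnected A.hom] {Ω : Type u} [Field Ω] [IsAlgClosed Ω]
    (σ : Spec (CommRingCat.of Ω) ⟶ S) {c c' : PicF.Cl (A ⊗ Over.mk σ).left}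
    (hc : AbDual.IsPicZeroCl A.hom (Over.mk σ) c) (hc' : AbDual.IsPicZeroCl A.hom (Over.mk σ) c') :
    AbDual.IsPicZeroCl A.hom (Over.mk σ) (c * c') := by
  haveI : IsProper ((Over.pullback σ).obj A).hom := inferInstanceAs (IsProper (pullback.snd A.hom σ))
  haveI : GeometricallyIntegral ((Over.pullback σ).obj A).hom := AbDualBase.geometricallyIntegral_fibre σ A
  haveI : IsCommMonObj ((Over.pullback σ).obj A) := isCommMonObj_of_isProper_of_geometricallyIntegral _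
  obtain ⟨L, hL, rfl, hz⟩ := AbDualBase.algEquiv_of_pz σ hc
  obtain ⟨L', hL', rfl, hz'⟩ := AbDualBase.algEquiv_of_pz σ hc'
  let U := Red.bc σ A
  obtain ⟨H, hH⟩ := AVProj.exists_isAmple (X := U)
  obtain ⟨D, hD, ⟨e⟩⟩ := H23.PicInv.exists_inverse hH.1
  have hHD : PicF.cl H * PicF.cl D = 1 := by rw [← PicMul.cl_tensor]; exact PicMul.cl_eq_iff.2 ⟨e⟩
  have hinv : ∀ b : 𝟙_ (Over (Spec (CommRingCat.of Ω))) ⟶ U,
      CubeAb.F (PicF.cl (CohB1.tensorMod L L')) (CubeAb.tr b) = PicF.cl (CohB1.tensorMod L L') := fun b => by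
    show AVPair.pl (CubeAb.tr b) (PicF.cl (CohB1.tensorMod L L')) = _
    have htr : ∀ {M : U.left.Modules}, PicF.IsInvertible M → @Pic13.IsAlgEquivZero Ω _ U.left ⟨U.hom⟩ M →
        AVPair.pl (CubeAb.tr b) (PicF.cl M) = PicF.cl M := fun {M} hM hM0 => by
      rw [show CubeAb.tr b = 𝟙 U * (toUnit U ≫ b) from rfl, AVDecomp.additive hM hM0,
        AVPair.pl_const ⟨M, rfl, hM⟩, AVPair.pl_id, _root_.mul_one]
    rw [PicMul.cl_tensor, map_mul, htr hL hz, htr hL' hz']
  obtain ⟨a, ha⟩ := AVTheta8.exists_translate hH.1 (PicMul.isInvertible_tensor hL hL') hinv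
    ((S12002.result Ω U H hH).subset fun a ha => (AVTheta8.F_tr_eq_iff a).1 ha)
  let P₁ := 𝟙_ (Over (Spec (CommRingCat.of Ω)))
  let g : U.left ⟶ (U ⊗ P₁).left := (lift (𝟙 U) (toUnit U)).left
  have hm : AbDual.IsPicZeroCl U.hom P₁ (AVPair.pl (U ◁ a) (AVField.mum (PicF.cl H) (PicF.cl D))) :=
    AVDual.pz_pl a (AVField.pz_mum ⟨H, rfl, hH.1⟩ hHD)
  have hT := AVField.pz_transport σ A P₁ hm
  let j : Over.mk σ ⟶ Over.mk (P₁.hom ≫ σ) := Over.homMk (𝟙 _) (by
    show 𝟙 _ ≫ 𝟙 _ ≫ σ = σ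
    rw [Category.id_comp, Category.id_comp])
  have hj := AbDualBase.pz_xtMap j hT
  have hg : PicF.XTmap A.hom j ≫ (AgPol.bcXTIso σ A P₁).inv = g := by
    rw [Iso.comp_inv_eq]
    refine pullback.hom_ext ?_ ?_
    · rw [Category.assoc]
      refine Eq.trans ?_ (congrArg (g ≫ ·) (pullbackLeftPullbackSndIso_hom_fst A.hom σ P₁.hom)).symm
      refine (pullback.lift_fst _ _ _).trans ((Category.comp_id _).trans ?_)
      exact (Category.id_comp _).symm.trans
        ((congrArg (· ≫ pullback.fst A.hom σ) (congrArg CommaMorphism.left (lift_fst (𝟙 U) (toUnit U)))).symm.trans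
          (Category.assoc _ _ _))
    · rw [Category.assoc]
      refine Eq.trans ?_ (congrArg (g ≫ ·) (pullbackLeftPullbackSndIso_hom_snd A.hom σ P₁.hom)).symm
      refine (pullback.lift_snd _ _ _).trans ((Category.comp_id _).trans ?_)
      exact (congrArg CommaMorphism.left (lift_snd (𝟙 U) (toUnit U))).symm
  convert hj using 1
  rw [PicClLib.pullCl_comp, hg]
  show (PicF.cl L * PicF.cl L' : PicF.Cl U.left) =
    AVPair.pl (lift (𝟙 U) (toUnit U)) (AVPair.pl (U ◁ a) (AVField.mum (PicF.cl H) (PicF.cl D)))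
  rw [AVPair.pl_pl, lift_whiskerLeft]
  simp only [AVField.mum, map_mul]
  rw [AVPair.pl_pl, AVPair.pl_pl, AVPair.pl_pl, show lift (𝟙 U) (toUnit U ≫ a) ≫ μ[U] = CubeAb.tr a from rfl,
    lift_fst, lift_snd, AVPair.pl_id, AVPair.pl_const (AVField.isInvertibleCl_inv ⟨H, rfl, hH.1⟩ hHD),
    _root_.mul_one, show AVPair.pl (CubeAb.tr a) (PicF.cl H) = CubeAb.F (PicF.cl H) (CubeAb.tr a) from rfl, ha,
    _root_.mul_assoc, hHD, _root_.mul_one, PicMul.cl_tensor]

variable [GrpObj A] [IsCommMonObj A] [IsProper A.hom] [Smooth A.hom] [GeometricallyConnected A.hom] [GrpObj At]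
  {φ : AgPol.DualMap A At} (hφ : AbDual.IsDualAV Scheme.fppfPrecoverage A At φ)
  {ξ : PicF.Cl (A ⊗ At).left} (hξ : AbDual.IsPoincareCl A At φ ξ)

include hξ in
theorem pz_graph {T : Over S} (g : T ⟶ At) : AbDual.IsPicZeroCl A.hom T (pb (A ◁ g) ξ) := by
  have h := AbDualBase.pz_xtMap g hξ.1
  rwa [PicZeroPrim.xtMap_eq] at h

include hφ hξ in
theorem phi_graph {T : Over S} (g : T ⟶ At) : φ T (pb (A ◁ g) ξ) = g := by
  have h := hφ.relPic.natural _ _ g ξ hξ.1
  rw [PicZeroPrim.xtMap_eq, hξ.2.1, Category.comp_id] at h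
  exact h

include hξ in
theorem axis : pb (lift (1 : At ⟶ A) (𝟙 At)) ξ = 1 := by
  have h : PicF.pullCl (PicF.secT A.hom η[A].left (Over.w η[A]) At) ξ = 1 := hξ.2.2
  rwa [PicZeroPrim.secT_eq, ← Hom.one_def] at h

include hξ in
theorem graph_rigid {T : Over S} (g : T ⟶ At) : pb (lift (1 : T ⟶ A) g) ξ = 1 := by
  rw [show lift (1 : T ⟶ A) g = g ≫ lift (1 : At ⟶ A) (𝟙 At) by ext <;> simp [MonObj.comp_one], ← pb_pb,
    axis hξ, map_one]

include hφ in
/-- Rigidified families with the same point are equal. -/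
theorem eq_of_point {T : Over S} {c c' : PicF.Cl (A ⊗ T).left} (hc : AbDual.IsPicZeroCl A.hom T c)
    (hc' : AbDual.IsPicZeroCl A.hom T c') (h : φ T c = φ T c') (hs : pb (lift (1 : T ⟶ A) (𝟙 T)) c = 1)
    (hs' : pb (lift (1 : T ⟶ A) (𝟙 T)) c' = 1) : c = c' := by
  refine PicZeroPrim.eq_of_phi hφ hc hc' h ?_
  rw [PicZeroPrim.secT_eq, ← Hom.one_def]
  exact hs.trans hs'.symm

include hφ hξ in
theorem add_right {T : Over S} (f : T ⟶ A) (g g' : T ⟶ At) :
    pb (lift f (g * g')) ξ = pb (lift f g) ξ * pb (lift f g') ξ := by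
  have h : pb (A ◁ (g * g')) ξ = pb (A ◁ g) ξ * pb (A ◁ g') ξ := by
    obtain ⟨L, hL, hLi, hLt⟩ := pz_graph (A := A) hξ g
    have hs : ∀ v : T ⟶ At, pb (lift (1 : T ⟶ A) (𝟙 T)) (pb (A ◁ v) ξ) = 1 := fun v => by
      rw [pb_pb, lift_whiskerLeft, Category.id_comp, graph_rigid hξ]
    have hm : AbDual.IsPicZeroCl A.hom T (pb (A ◁ g) ξ * pb (A ◁ g') ξ) := by
      refine pz_of_points (PicMul.isInvertibleCl_mul (AbDualBase.pz_invertible (pz_graph hξ g))
        (AbDualBase.pz_invertible (pz_graph hξ g'))) fun Ω _ _ σ z => ?_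
      rw [map_mul, pb_pb, pb_pb, ← MonoidalCategory.whiskerLeft_comp, ← MonoidalCategory.whiskerLeft_comp]
      exact pz_mul_point σ (pz_graph hξ _) (pz_graph hξ _)
    refine eq_of_point hφ (pz_graph hξ _) hm ?_ (hs _) (by rw [map_mul, hs, hs, _root_.mul_one])
    rw [phi_graph hφ hξ, AbDualBase.phi_mul hφ (pz_graph hξ g) (pz_graph hξ g'), phi_graph hφ hξ, phi_graph hφ hξ]
  have h1 := congrArg (pb (lift f (𝟙 T))) h
  simpa only [map_mul, pb_pb, lift_whiskerLeft, Category.id_comp] using h1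

include hφ hξ in
theorem add_left {T : Over S} (f f' : T ⟶ A) (g : T ⟶ At) :
    pb (lift (f * f') g) ξ = pb (lift f g) ξ * pb (lift f' g) ξ := by
  have hrig : PicF.pullCl (PicF.secT A.hom η[A].left (Over.w η[A]) At) ξ = 1 := hξ.2.2
  have h := congrArg (PicF.pullCl (lift f (lift f' g)).left) (PicZeroPrim.primitive hφ hξ.1 hrig)
  rw [PicMul.pullCl_mul, PicClLib.pullCl_comp, PicClLib.pullCl_comp, PicClLib.pullCl_comp, PicZeroPrim.xtMap_eq,
    show PicF.XTproj A.hom (A ⊗ At) = (snd A (A ⊗ At)).left from rfl, ← Over.comp_left, ← Over.comp_left,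
    ← Over.comp_left, lift_snd] at h
  refine Eq.trans (congrArg (fun m : T ⟶ A ⊗ At => pb m ξ) ?_) (h.trans ?_)
  · ext
    · simp [MonObj.comp_mul]
    · simp
  · rw [_root_.mul_comm]
    refine congrArg₂ (· * ·) (congrArg (fun m : T ⟶ A ⊗ At => pb m ξ) ?_) rfl
    ext <;> simp

include hφ hξ in
theorem pow_right {T : Over S} (f : T ⟶ A) (g : T ⟶ At) : ∀ n : ℕ, pb (lift f (g ^ n)) ξ = pb (lift f g) ξ ^ n
  | 0 => by
    rw [pow_zero, pow_zero]
    have h := add_right hφ hξ f 1 1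
    rw [_root_.one_mul] at h
    exact (IsUnit.mul_eq_left
      (PicMul.isUnit_of_isInvertibleCl (PicClLib.isInvertibleCl_pullCl _ (AbDualBase.pz_invertible hξ.1)))).1 h.symm
  | n + 1 => by rw [pow_succ, add_right hφ hξ, pow_right f g n, pow_succ]

variable {lam : A ⟶ At} (hpol : AgPol.IsPolarization A At φ lam)

include hφ hξ hpol in
/-- The two families of a polarisation agree over every geometric fibre. -/
theorem symm_fibre (Ω : Type u) [Field Ω] [IsAlgClosed Ω] (t : Spec (CommRingCat.of Ω) ⟶ S) :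
    let p : Over.mk ((Red.bc t A).hom ≫ t) ⟶ A := Over.homMk (pullback.fst A.hom t) pullback.condition
    pb (A ◁ p) (pb (A ◁ lam) ξ) = pb (A ◁ p) (pb (lift (snd A A) (fst A A ≫ lam)) ξ) := by
  intro p
  obtain ⟨L, hL, N, hN, hN', hφN⟩ := hpol.2 Ω t
  haveI : IsProper (Red.bc t A).hom := MorphismProperty.pullback_snd (P := @IsProper) A.hom t inferInstance
  haveI : GeometricallyIntegral (Red.bc t A).hom := AbDualBase.geometricallyIntegral_fibre t A
  haveI : IsCommMonObj (Red.bc t A) := isCommMonObj_of_isProper_of_geometricallyIntegral _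
  obtain ⟨D, hD, ⟨e⟩⟩ := H23.PicInv.exists_inverse hL.1
  have hLD : PicF.cl L * PicF.cl D = 1 := by rw [← PicMul.cl_tensor]; exact PicMul.cl_eq_iff.2 ⟨e⟩
  let U := Red.bc t A
  have hNm : (PicF.cl N : PicF.Cl (U ⊗ U).left) = AVField.mum (PicF.cl L) (PicF.cl D) :=
    cl_eq_mum hN' hLD
  have hNz : AbDual.IsPicZeroCl U.hom U (PicF.cl N) := hNm ▸ AVField.pz_mum ⟨L, rfl, hL.1⟩ hLD
  let T := Over.mk (U.hom ≫ t)
  let d : PicF.Cl (A ⊗ T).left := PicF.pullCl (AgPol.bcXTIso t A U).inv (PicF.cl N)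
  have hdz : AbDual.IsPicZeroCl A.hom T d := AVField.pz_transport t A U hNz
  have hφd : φ T d = p ≫ lam := Over.OverMorphism.ext (by
    rw [← AVField.bcDual_fst t φ U (PicF.cl N), hφN]
    exact pullback.lift_fst _ _ _)
  have hsec : (lift (1 : T ⟶ A) (𝟙 T)).left ≫ (AgPol.bcXTIso t A U).inv = (lift (1 : U ⟶ U) (𝟙 U)).left := by
    rw [Iso.comp_inv_eq]
    refine pullback.hom_ext ?_ ?_
    · rw [Category.assoc]
      refine ((congrArg CommaMorphism.left (lift_fst (1 : T ⟶ A) (𝟙 T))).trans ?_).trans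
        (congrArg ((lift (1 : U ⟶ U) (𝟙 U)).left ≫ ·) (pullbackLeftPullbackSndIso_hom_fst A.hom t U.hom)).symm
      rw [← Category.assoc]
      refine Eq.trans ?_ (congrArg (· ≫ pullback.fst A.hom t) (congrArg CommaMorphism.left (lift_fst (1 : U ⟶ U) (𝟙 U)))).symm
      rw [AVDualCx.one_prj, Hom.one_def]
      show T.hom ≫ η[A].left = _
      exact Category.assoc _ _ _
    · rw [Category.assoc]
      refine ((congrArg CommaMorphism.left (lift_snd (1 : T ⟶ A) (𝟙 T))).trans ?_).trans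
        (congrArg ((lift (1 : U ⟶ U) (𝟙 U)).left ≫ ·) (pullbackLeftPullbackSndIso_hom_snd A.hom t U.hom)).symm
      exact (congrArg CommaMorphism.left (lift_snd (1 : U ⟶ U) (𝟙 U))).symm
  have hds : pb (lift (1 : T ⟶ A) (𝟙 T)) d = 1 := by
    show PicF.pullCl _ (PicF.pullCl _ (PicF.cl N)) = 1
    rw [PicClLib.pullCl_comp, hsec]
    show AVPair.pl (lift (1 : U ⟶ U) (𝟙 U)) (PicF.cl N : PicF.Cl (U ⊗ U).left) = 1
    rw [hNm]
    simp only [AVField.mum, map_mul]
    rw [AVPair.pl_pl, AVPair.pl_pl, AVPair.pl_pl,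
      show lift (1 : U ⟶ U) (𝟙 U) ≫ μ[U] = 𝟙 U from _root_.one_mul (𝟙 U), lift_fst, lift_snd,
      show (1 : U ⟶ U) = toUnit U ≫ η[U] from Hom.one_def,
      AVPair.pl_const (AVField.isInvertibleCl_inv ⟨L, rfl, hL.1⟩ hLD), _root_.mul_one, AVPair.pl_id, AVPair.pl_id, hLD]
  have h1 : pb (A ◁ p) (pb (A ◁ lam) ξ) = d := by
    rw [pb_pb, ← MonoidalCategory.whiskerLeft_comp]
    refine eq_of_point hφ (pz_graph hξ _) hdz (by rw [phi_graph hφ hξ, hφd]) ?_ hds
    rw [pb_pb, lift_whiskerLeft, Category.id_comp, graph_rigid hξ]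
  let sw : (A ⊗ T).left ⟶ (A ⊗ T).left :=
    (AgPol.bcXTIso t A U).inv ≫ (lift (snd U U) (fst U U)).left ≫ (AgPol.bcXTIso t A U).hom
  have hd2 : PicF.pullCl sw d = d := by
    show PicF.pullCl sw (PicF.pullCl _ (PicF.cl N)) = PicF.pullCl _ (PicF.cl N)
    rw [PicClLib.pullCl_comp]
    simp only [sw, Category.assoc, Iso.hom_inv_id, Category.comp_id]
    rw [← PicClLib.pullCl_comp]
    congr 1
    show AVPair.pl (lift (snd U U) (fst U U)) (PicF.cl N : PicF.Cl (U ⊗ U).left) = PicF.cl N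
    rw [hNm]
    simp only [AVField.mum, map_mul]
    rw [AVPair.pl_pl, AVPair.pl_pl, AVPair.pl_pl, lift_fst, lift_snd, show lift (snd U U) (fst U U) ≫ μ[U] = μ[U] by
      show snd U U * fst U U = μ[U]
      rw [_root_.mul_comm]
      show lift (fst U U) (snd U U) ≫ μ[U] = μ[U]
      rw [lift_fst_snd, Category.id_comp], _root_.mul_assoc,
      _root_.mul_comm (AVPair.pl (snd U U) (PicF.cl D)), ← _root_.mul_assoc]
  have hsw : sw ≫ (A ◁ p).left = (A ◁ p).left ≫ (lift (snd A A) (fst A A)).left :=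
    swap_transport t (A := A) p rfl
  rw [h1]
  refine hd2.symm.trans ?_
  rw [← h1]
  show PicF.pullCl sw (PicF.pullCl (A ◁ p).left (PicF.pullCl (A ◁ lam).left ξ)) =
    PicF.pullCl (A ◁ p).left (PicF.pullCl (lift (snd A A) (fst A A ≫ lam)).left ξ)
  rw [PicClLib.pullCl_comp, hsw, PicClLib.pullCl_comp, PicClLib.pullCl_comp, Category.assoc]
  have e : lift (snd A A) (fst A A) ≫ A ◁ lam = lift (snd A A) (fst A A ≫ lam) := lift_whiskerLeft _ _ _
  exact congrArg (fun m => PicF.pullCl m ξ)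
    (congrArg ((A ◁ p).left ≫ ·) (congrArg CommaMorphism.left e))

include hφ hξ hpol in
/-- **A polarisation is symmetric.** -/
theorem symm : pb (lift (snd A A) (fst A A ≫ lam)) ξ = pb (A ◁ lam) ξ := by
  let e₂ := pb (lift (snd A A) (fst A A ≫ lam)) ξ
  have hpt : ∀ (Ω : Type u) [Field Ω] [IsAlgClosed Ω] (σ : Spec (CommRingCat.of Ω) ⟶ S) (z : Over.mk σ ⟶ A),
      pb (A ◁ z) e₂ = pb (A ◁ z) (pb (A ◁ lam) ξ) := fun Ω _ _ σ z => by
    let p : Over.mk ((Red.bc σ A).hom ≫ σ) ⟶ A := Over.homMk (pullback.fst A.hom σ) pullback.condition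
    let w : Over.mk σ ⟶ Over.mk ((Red.bc σ A).hom ≫ σ) :=
      Over.homMk (pullback.lift z.left (𝟙 _) ((Over.w z).trans (Category.id_comp _).symm))
        ((Category.assoc _ _ _).symm.trans ((congrArg (· ≫ σ) (pullback.lift_snd _ _ _)).trans (Category.id_comp _)))
    have hw : w ≫ p = z := Over.OverMorphism.ext (pullback.lift_fst _ _ _)
    rw [← hw, MonoidalCategory.whiskerLeft_comp, ← pb_pb, ← pb_pb, symm_fibre hφ hξ hpol Ω σ]
  have hz : AbDual.IsPicZeroCl A.hom A e₂ := by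
    refine pz_of_points (PicClLib.isInvertibleCl_pullCl _ (AbDualBase.pz_invertible hξ.1)) fun Ω _ _ σ z => ?_
    rw [hpt Ω σ z, pb_pb, ← MonoidalCategory.whiskerLeft_comp]
    exact pz_graph hξ _
  haveI := hpol.1
  have hone : ∀ {T : Over S} (f : T ⟶ A), pb (lift f (1 : T ⟶ At)) ξ = 1 := fun f => by
    have h := pow_right hφ hξ f 1 0
    rwa [pow_zero, pow_zero] at h
  refine eq_of_point hφ hz (pz_graph hξ lam) ?_ ?_ ?_
  · rw [phi_graph hφ hξ]
    refine mul_inv_eq_one.1 (AbDualBase.eq_one_of_geometric (φ A e₂ * lam⁻¹) ?_ fun Ω _ _ σ x => ?_)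
    · have hη : pb (A ◁ η[A]) e₂ = 1 := by
        show pb _ (pb _ ξ) = 1
        rw [pb_pb, show (A ◁ η[A]) ≫ lift (snd A A) (fst A A ≫ lam) = lift (1 : A ⊗ 𝟙_ _ ⟶ A) (fst A (𝟙_ _) ≫ lam) by
          ext
          · simp [Hom.one_def, toUnit_unique (snd A (𝟙_ (Over S))) (toUnit _)]
          · simp, graph_rigid hξ]
      have h := hφ.relPic.natural _ _ η[A] e₂ hz
      rw [PicZeroPrim.xtMap_eq, show PicF.pullCl (A ◁ η[A]).left e₂ = 1 from hη, AbDualBase.phi_one hφ] at h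
      rw [MonObj.comp_mul, GrpObj.comp_inv, ← h, IsMonHom.one_hom, _root_.one_mul]
      rw [show (η[At] : 𝟙_ (Over S) ⟶ At) = 1 by rw [Hom.one_def, toUnit_unique (toUnit (𝟙_ (Over S))) (𝟙 _), Category.id_comp], inv_one]
    · rw [MonObj.comp_mul, GrpObj.comp_inv, mul_inv_eq_one, ← hφ.relPic.natural _ _ x _ hz, PicZeroPrim.xtMap_eq,
        show PicF.pullCl (A ◁ x).left e₂ = pb (A ◁ x) (pb (A ◁ lam) ξ) from hpt Ω σ x, pb_pb,
        ← MonoidalCategory.whiskerLeft_comp, phi_graph hφ hξ]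
  · show pb _ (pb _ ξ) = 1
    rw [pb_pb, show lift (1 : A ⟶ A) (𝟙 A) ≫ lift (snd A A) (fst A A ≫ lam) = lift (𝟙 A) (1 : A ⟶ At) by
      ext <;> simp [MonObj.one_comp], hone]
  · rw [pb_pb, lift_whiskerLeft, Category.id_comp, graph_rigid hξ]

include hφ hξ hpol in
/-- The symmetric pairing of a polarisation. -/
theorem symm_pair {T : Over S} (f g : T ⟶ A) : pb (lift g (f ≫ lam)) ξ = pb (lift f (g ≫ lam)) ξ := by
  have h := congrArg (pb (lift f g)) (symm hφ hξ hpol)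
  rw [pb_pb, pb_pb, lift_whiskerLeft] at h
  refine Eq.trans (congrArg (fun m : T ⟶ A ⊗ At => pb m ξ) ?_) h
  ext <;> simp

include hφ hξ hpol in
/-- The symmetric pairing of a multiple of a polarisation. -/
theorem symm_pair_pow (n : ℕ) {T : Over S} (f g : T ⟶ A) :
    pb (lift g (f ≫ lam ^ n)) ξ = pb (lift f (g ≫ lam ^ n)) ξ := by
  rw [MonObj.comp_pow, MonObj.comp_pow, pow_right hφ hξ, pow_right hφ hξ, symm_pair hφ hξ hpol]

include hφ hξ hpol in
/-- The graph class of a multiple of a polarisation along the group law. -/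
theorem mu_graph [IsCommMonObj At] (n : ℕ) :
    pb μ[A] (pb (lift (𝟙 A) (lam ^ n)) ξ) = pb (A ◁ lam) ξ ^ (2 * n) * pb (fst A A) (pb (lift (𝟙 A) (lam ^ n)) ξ) *
      pb (snd A A) (pb (lift (𝟙 A) (lam ^ n)) ξ) := by
  haveI := hpol.1
  have hμ : μ[A] = fst A A * snd A A := by
    show μ[A] = lift (fst A A) (snd A A) ≫ μ[A]
    rw [lift_fst_snd, Category.id_comp]
  have hl : μ[A] ≫ lam ^ n = (fst A A ≫ lam ^ n) * (snd A A ≫ lam ^ n) := by
    rw [MonObj.comp_pow, MonObj.comp_pow, MonObj.comp_pow, hμ, MonObj.mul_comp, _root_.mul_pow]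
  have hpq : pb (lift (fst A A) (snd A A ≫ lam ^ n)) ξ = pb (A ◁ lam) ξ ^ n := by
    rw [MonObj.comp_pow, pow_right hφ hξ]
    refine congrArg (fun m : A ⊗ A ⟶ A ⊗ At => pb m ξ ^ n) ?_
    ext <;> simp
  rw [pb_pb, pb_pb, pb_pb, comp_lift, comp_lift, comp_lift, Category.comp_id, Category.comp_id, Category.comp_id, hl, hμ,
    add_right hφ hξ, add_left hφ hξ, add_left hφ hξ, symm_pair_pow hφ hξ hpol n (fst A A) (snd A A), hpq, two_mul,
    pow_add]
  ac_rfl

omit [IsCommMonObj A] in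
/-- Geometric points of an abelian scheme form a divisible group. -/
theorem div_points {Ω : Type u} [Field Ω] [IsAlgClosed Ω] (σ : Spec (CommRingCat.of Ω) ⟶ S) (n : ℕ) (hn : 0 < n)
    (b : Over.mk σ ⟶ A) : ∃ a : Over.mk σ ⟶ A, a ^ n = b := by
  letI : GrpObj ((Over.pullback σ).obj A) := Functor.grpObjObj
  haveI : IsProper ((Over.pullback σ).obj A).hom := inferInstanceAs (IsProper (pullback.snd A.hom σ))
  haveI : GeometricallyIntegral ((Over.pullback σ).obj A).hom := AbDualBase.geometricallyIntegral_fibre σ A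
  haveI : IsCommMonObj ((Over.pullback σ).obj A) := isCommMonObj_of_isProper_of_geometricallyIntegral _
  obtain ⟨a, ha⟩ := TorsPtsLib.exists_pow_eq ((Over.pullback σ).obj A) n hn (TorsPtsLib.bcPtsEquiv σ A b)
  exact ⟨(TorsPtsLib.bcPtsEquiv σ A).symm a, by rw [← map_pow, ha, MulEquiv.symm_apply_apply]⟩

end Groth.Agent.AVBase
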