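import Groth.Agent.AVFieldDual.Isogeny
import Groth.Agent.AVFieldDual.FibreTools
import Groth.Agent.AVFieldDual.DualBC
import Groth.Agent.AVIndex.Orth
import Groth.Agent.AVIndex.Field
import Groth.Agent.TorsPtsLib.BC
import Groth.Agent.AVTheta8.Degen
import Groth.Agent.H23.MaxAbelian
import Groth.Agent.S7673

/-!
# The Euler characteristic of a family of algebraically trivial classes
-/

noncomputable section

set_option autoImplicit false
set_option linter.style.haveILetI false
set_option linter.unusedSectionVars false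
set_option backward.isDefEq.respectTransparency false
set_option backward.isDefEq.respectTransparency.types false
set_option maxHeartbeats 2000000
set_option synthInstance.maxHeartbeats 200000

universe u

open CategoryTheory CategoryTheory.Limits MonoidalCategory CartesianMonoidalCategory MonObj AlgebraicGeometry TopologicalSpace

namespace Groth.Agent.AVField

open Groth.Agent Groth.Agent.H23 Groth.Agent.H23.TrivBasic Groth.Agent.AVPair Groth.Agent.AVDual Groth.Agent.AVDualCx
open scoped Groth.Agent.H23.PicMul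

variable {k : Type u} [Field k] {A B Bt : Over (Spec (CommRingCat.of k))} [GrpObj A] [IsProper A.hom]
  [GeometricallyIntegral A.hom] [GrpObj B] [IsProper B.hom] [GeometricallyIntegral B.hom]
  [GrpObj Bt] [IsProper Bt.hom] [GeometricallyIntegral Bt.hom]
  {φ : ∀ T : Over (Spec (CommRingCat.of k)), PicF.Cl (PicF.XT B.hom T) → (T ⟶ Bt)}
  (hφ : AbDual.IsDualAV Scheme.fppfPrecoverage B Bt φ) {P : (B ⊗ Bt).left.Modules}

include hφ in
/-- The dual has the same dimension. -/
theorem dim_dual : topologicalKrullDim Bt.left = topologicalKrullDim B.left := by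
  obtain ⟨L, hL⟩ := AVProj.exists_isAmple (X := B)
  obtain ⟨D, hD, ⟨e⟩⟩ := PicInv.exists_inverse hL.1
  have hLD : PicF.cl L * PicF.cl D = 1 := by rw [← PicMul.cl_tensor]; exact PicMul.cl_eq_iff.2 ⟨e⟩
  obtain ⟨g1, -, g3, -⟩ := isogeny_phi_mum hφ hL hLD
  haveI := g1; haveI := g3
  haveI : IsLocallyNoetherian B.left := LocallyOfFiniteType.isLocallyNoetherian B.hom
  haveI : IsLocallyNoetherian Bt.left := LocallyOfFiniteType.isLocallyNoetherian Bt.hom
  exact (dim_eq_of_finite_surjective (φ B (mum (PicF.cl L) (PicF.cl D))).left).symm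

include hφ in
/-- **The Euler characteristic of a Poincaré module is a sign.** -/
theorem natAbs_euler_poincare (hP : PicF.IsInvertible P) (hξ : AbDual.IsPoincareCl B Bt φ (PicF.cl P)) :
    (@Curv2.euler k _ (B ⊗ Bt).left ⟨(snd B Bt).left ≫ Bt.hom⟩ P).natAbs = 1 := by
  letI : Bt.left.Over (Spec (CommRingCat.of k)) := ⟨Bt.hom⟩
  letI : (B ⊗ Bt).left.Over (Spec (CommRingCat.of k)) := ⟨(snd B Bt).left ≫ Bt.hom⟩
  haveI : IsProper (Bt.left ↘ Spec (CommRingCat.of k)) := ‹IsProper Bt.hom›
  haveI : IsProper (snd B Bt).left := inferInstanceAs (IsProper (pullback.snd B.hom Bt.hom))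
  haveI : IsProper ((B ⊗ Bt).left ↘ Spec (CommRingCat.of k)) :=
    inferInstanceAs (IsProper ((snd B Bt).left ≫ Bt.hom))
  haveI : IsIntegral B.left := GeometricallyIntegral.isIntegral_of_subsingleton B.hom
  haveI := CurveCohLib.isNoetherian_of_proper (k := k) (X := (B ⊗ Bt).left)
  haveI : HasInjectiveResolutions (B ⊗ Bt).left.Modules := KFlatLib.hasInjectiveResolutions_modules
  obtain ⟨g, hg⟩ : ∃ g : ℕ, topologicalKrullDim B.left = g :=
    ⟨_, VarDim.topologicalKrullDim_eq_deg_genericPoint B.hom⟩
  obtain ⟨h0, ⟨i⟩⟩ := poincare_concentrated_field hφ hP hξ hg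
  rw [euler_of_concentrated (snd B Bt).left rfl (AmpleVan.isCoh_invertible hP) h0, CurveCohLib.euler_congr (k := k) i]
  haveI : IsClosedImmersion (1 : 𝟙_ (Over (Spec (CommRingCat.of k))) ⟶ Bt).left :=
    isClosedImmersion_of_comp_eq_id Bt.hom _ (Over.w (1 : 𝟙_ (Over (Spec (CommRingCat.of k))) ⟶ Bt))
  rw [euler_push_point (1 : 𝟙_ (Over (Spec (CommRingCat.of k))) ⟶ Bt).left
    (Over.w (1 : 𝟙_ (Over (Spec (CommRingCat.of k))) ⟶ Bt))]
  simp [Int.natAbs_pow]

section Translate

variable {S S' : Scheme.{u}} (q : S' ⟶ S) {X Y : Over S} [GrpObj X]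

/-- A point which does not move a morphism fixes the classes pulled back along it. -/
theorem pullCl_translate (x : Over.mk q ⟶ X) (g : X ⟶ Y)
    (hg : ∀ {V : Over S} (p : V ⟶ X) (t : V ⟶ Over.mk q), (p * (t ≫ x)) ≫ g = p ≫ g) (c : PicF.Cl Y.left) :
    PicF.pullCl (𝟙 (Red.bc q X) * (toUnit (Red.bc q X) ≫ TorsPtsLib.toBC q X x)).left
        (PicF.pullCl (pullback.fst X.hom q) (PicF.pullCl g.left c)) =
      PicF.pullCl (pullback.fst X.hom q) (PicF.pullCl g.left c) := by
  let V : Over S := Over.mk ((Red.bc q X).hom ≫ q)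
  let p : V ⟶ X := Over.homMk (pullback.fst X.hom q) pullback.condition
  let t : V ⟶ Over.mk q := Over.homMk (Red.bc q X).hom rfl
  have htr : (𝟙 (Red.bc q X) * (toUnit (Red.bc q X) ≫ TorsPtsLib.toBC q X x)).left ≫ pullback.fst X.hom q =
      (p * (t ≫ x)).left := by
    refine mul_bc_fst q _ _ _ _ ((congrArg (· ≫ pullback.fst X.hom q) (Over.id_left _)).trans (Category.id_comp _)) ?_
    rw [Over.comp_left, Category.assoc]
    exact congrArg ((Red.bc q X).hom ≫ ·) (pullback.lift_fst _ _ _)
  refine (PicClLib.pullCl_comp _ _ _).trans ((congrArg (fun m => PicF.pullCl m (PicF.pullCl g.left c)) htr).trans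
    ((PicClLib.pullCl_comp _ _ _).trans (Eq.trans ?_ (PicClLib.pullCl_comp _ _ _).symm)))
  exact congrArg (fun m => PicF.pullCl m c)
    ((Over.comp_left _ _ _ (p * (t ≫ x)) g).symm.trans ((congrArg CommaMorphism.left (hg p t)).trans
      (Over.comp_left _ _ _ p g)))

end Translate

variable (f : A ⟶ Bt) [IsMonHom f]

/-- If the classifying map is finite, so is the map of products, of the same degree. -/
theorem euler_whisker_finite [IsFinite f.left] [Flat f.left] (n : ℕ) (hn : ∀ y, Scheme.Hom.finrank f.left y = n)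
    (hP : PicF.IsInvertible P) :
    @Curv2.euler k _ (B ⊗ A).left ⟨(snd B A).left ≫ A.hom⟩ ((Scheme.Modules.pullback (B ◁ f).left).obj P) =
      (n : ℤ) * @Curv2.euler k _ (B ⊗ Bt).left ⟨(snd B Bt).left ≫ Bt.hom⟩ P := by
  haveI : GeometricallyIntegral (B ⊗ A).hom := MaxAbelian.geometricallyIntegral_tensor B A
  haveI : GeometricallyIntegral (B ⊗ Bt).hom := MaxAbelian.geometricallyIntegral_tensor B Bt
  haveI : IsProper (B ⊗ A).hom := by
    rw [← Over.w (snd B A)]
    haveI : IsProper (snd B A).left := inferInstanceAs (IsProper (pullback.snd B.hom A.hom))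
    infer_instance
  haveI : IsProper (B ⊗ Bt).hom := by
    rw [← Over.w (snd B Bt)]
    haveI : IsProper (snd B Bt).left := inferInstanceAs (IsProper (pullback.snd B.hom Bt.hom))
    infer_instance
  have sq : IsPullback (B ◁ f).left (snd B A).left (snd B Bt).left f.left := EqvUnr.isPullback_whiskerLeft B f
  haveI : IsFinite (B ◁ f).left := MorphismProperty.of_isPullback (P := @IsFinite) sq.flip inferInstance
  haveI : Flat (B ◁ f).left := MorphismProperty.of_isPullback (P := @Flat) sq.flip inferInstance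
  haveI : LocallyOfFinitePresentation f.left := by
    haveI : LocallyOfFinitePresentation (f.left ≫ Bt.hom) := by rw [Over.w f]; infer_instance
    exact S12442.locallyOfFinitePresentation_of_comp f.left Bt.hom
  haveI : IsLocallyNoetherian (B ⊗ Bt).left := LocallyOfFiniteType.isLocallyNoetherian (B ⊗ Bt).hom
  have h := AVEuler.euler_pullback (B ◁ f) n (fun y => by
    rw [Scheme.Hom.finrank_of_isPullback _ _ _ _ sq.flip y, hn]) P (AmpleVan.isCoh_invertible hP)
  rwa [← Over.w (snd B A), ← Over.w (snd B Bt)] at h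

/-- If the classifying map is not finite, the Euler characteristic vanishes. -/
theorem euler_whisker_nonfinite (hdim : topologicalKrullDim Bt.left ≤ topologicalKrullDim A.left)
    (hf : ¬ IsFinite f.left) (hP : PicF.IsInvertible P) :
    @Curv2.euler k _ (B ⊗ A).left ⟨(snd B A).left ≫ A.hom⟩ ((Scheme.Modules.pullback (B ◁ f).left).obj P) = 0 := by
  let q := AVIndex.clMap k
  let X := B ⊗ A
  haveI : GeometricallyIntegral X.hom := MaxAbelian.geometricallyIntegral_tensor B A
  haveI : IsProper X.hom := by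
    rw [← Over.w (snd B A)]
    haveI : IsProper (snd B A).left := inferInstanceAs (IsProper (pullback.snd B.hom A.hom))
    infer_instance
  haveI : IsProper (Red.bc q X).hom := (BcComp.isAV_bc q X).1
  haveI : GeometricallyIntegral (Red.bc q X).hom := (BcComp.isAV_bc q X).2
  haveI : IsProper (Red.bc q A).hom := (BcComp.isAV_bc q A).1
  haveI : GeometricallyIntegral (Red.bc q A).hom := (BcComp.isAV_bc q A).2
  haveI : IsProper (Red.bc q Bt).hom := (BcComp.isAV_bc q Bt).1
  haveI : GeometricallyIntegral (Red.bc q Bt).hom := (BcComp.isAV_bc q Bt).2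
  let Q := (Scheme.Modules.pullback (B ◁ f).left).obj P
  have hQ : PicF.IsInvertible Q := PicClLib.isInvertible_pullback _ hP
  let Q' : (Red.bc q X).left.Modules := (Scheme.Modules.pullback (pullback.fst X.hom q)).obj Q
  have hQ' : PicF.IsInvertible Q' := PicClLib.isInvertible_pullback _ hQ
  letI : X.left.Over (Spec (CommRingCat.of k)) := ⟨X.hom⟩
  haveI : IsProper (X.left ↘ Spec (CommRingCat.of k)) := ‹IsProper X.hom›
  suffices h : @Curv2.euler (AlgebraicClosure k) _ (Red.bc q X).left ⟨(Red.bc q X).hom⟩ Q' = 0 by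
    haveI : IsLocallyNoetherian X.left := LocallyOfFiniteType.isLocallyNoetherian X.hom
    have h' := (S7673.result k X.left (AlgebraicClosure k) Q (AmpleVan.isCoh_invertible hQ)).symm.trans h
    rw [show (snd B A).left ≫ A.hom = X.hom from Over.w (snd B A)]
    exact h'
  refine AVTheta8.euler_eq_zero_of_degenerate hQ' ?_
  let f' : Red.bc q A ⟶ Red.bc q Bt := (Over.pullback q).map f
  haveI : IsMonHom f' := BcComp.isMonHom_bc_map q f
  have hdim' : topologicalKrullDim (Red.bc q Bt).left ≤ topologicalKrullDim (Red.bc q A).left := by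
    haveI : Subsingleton ↥(Spec (CommRingCat.of k)) := inferInstanceAs (Subsingleton (PrimeSpectrum k))
    haveI : Subsingleton ↥(Spec (CommRingCat.of (AlgebraicClosure k))) :=
      inferInstanceAs (Subsingleton (PrimeSpectrum (AlgebraicClosure k)))
    exact (FibDim.topologicalKrullDim_baseChange (IsPullback.of_hasPullback Bt.hom q)).le.trans
      (hdim.trans (FibDim.topologicalKrullDim_baseChange (IsPullback.of_hasPullback A.hom q)).ge)
  have hinf : Set.Infinite {a : 𝟙_ (Over (Spec (CommRingCat.of (AlgebraicClosure k)))) ⟶ Red.bc q A | a ≫ f' = 1} := by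
    refine fun hfin => hf ?_
    obtain ⟨g1, -, -⟩ := AVIndex.isogeny_of_finite_ker f' hfin hdim'
    haveI : IsAffineHom q := isAffineHom_of_isAffine q
    haveI : Surjective q := ⟨fun x => ⟨IsLocalRing.closedPoint _, Subsingleton.elim _ _⟩⟩
    haveI : Flat q := Flat.SpecMap_iff.2 (by
      show (algebraMap k (AlgebraicClosure k)).Flat
      rw [RingHom.flat_algebraMap_iff]
      infer_instance)
    have hg : (@Surjective ⊓ @Flat ⊓ @QuasiCompact : MorphismProperty Scheme.{u}) (pullback.fst Bt.hom q) :=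
      ⟨⟨inferInstance, inferInstance⟩, inferInstance⟩
    haveI := EtFound.fpqc_isFinite.{u}
    exact MorphismProperty.of_isPullback_of_descendsAlong (P := @IsFinite) (isPullback_map q f).flip hg g1
  let toPt : (𝟙_ (Over (Spec (CommRingCat.of (AlgebraicClosure k)))) ⟶ Red.bc q A) →
      (𝟙_ (Over (Spec (CommRingCat.of (AlgebraicClosure k)))) ⟶ Red.bc q X) := fun a =>
    TorsPtsLib.toBC q X (lift (1 : Over.mk q ⟶ B) (TorsPtsLib.ofBC q A a))
  have hinj : Function.Injective toPt := fun a b h => by
    have h1 := congrArg (fun t => TorsPtsLib.ofBC q X t ≫ snd B A) h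
    have h2 : ∀ c, TorsPtsLib.ofBC q X (TorsPtsLib.toBC q X c) = c := fun c =>
      (TorsPtsLib.bcPtsEquiv q X).symm_apply_apply c
    simp only [toPt, h2, lift_snd] at h1
    exact (TorsPtsLib.bcPtsEquiv q A).symm.injective h1
  refine (hinf.image hinj.injOn).mono ?_
  rintro _ ⟨a, ha, rfl⟩
  refine (PicGrp.cl_eq_cl_iff _ _).1 ?_
  let c := TorsPtsLib.ofBC q A a
  have hc : c ≫ f = 1 := by
    refine Eq.trans (Over.OverMorphism.ext ?_) ((TorsPtsLib.bcPtsEquiv q Bt).symm.map_one)
    show (a.left ≫ pullback.fst A.hom q) ≫ f.left =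
      (1 : 𝟙_ (Over (Spec (CommRingCat.of (AlgebraicClosure k)))) ⟶ Red.bc q Bt).left ≫ pullback.fst Bt.hom q
    rw [← show a ≫ f' = 1 from ha, Over.comp_left, Category.assoc, Category.assoc]
    exact congrArg (a.left ≫ ·) (pullback.lift_fst _ _ _).symm
  refine pullCl_translate q (lift (1 : Over.mk q ⟶ B) c) (B ◁ f) (fun {V} p t => ?_) (PicF.cl P)
  refine CartesianMonoidalCategory.hom_ext _ _ ?_ ?_
  · simp only [Category.assoc, whiskerLeft_fst]
    rw [MonObj.mul_comp, Category.assoc, lift_fst, MonObj.comp_one, _root_.mul_one]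
  · simp only [Category.assoc, whiskerLeft_snd]
    rw [← Category.assoc, MonObj.mul_comp, MonObj.mul_comp, Category.assoc t, lift_snd, Category.assoc t, hc,
      MonObj.comp_one, _root_.mul_one, Category.assoc]

end Groth.Agent.AVField
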