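import Groth.Agent.AVFieldDual.Polar
import Groth.Agent.AVSubLib.DegDet
import Groth.Agent.GrpSchLib.HomFlat

/-!
# The isogeny of an ample module, its degree, and degrees of transposes
-/

noncomputable section

set_option autoImplicit false
set_option linter.style.haveILetI false
set_option linter.unusedSectionVars false
set_option backward.isDefEq.respectTransparency false
set_option backward.isDefEq.respectTransparency.types false
set_option maxHeartbeats 1000000

universe u

open CategoryTheory CategoryTheory.Limits MonoidalCategory CartesianMonoidalCategory MonObj AlgebraicGeometry TopologicalSpace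

namespace Groth.Agent.AVField

open Groth.Agent Groth.Agent.H23 Groth.Agent.H23.TrivBasic Groth.Agent.AVPair Groth.Agent.AVDual Groth.Agent.AVDualCx
open scoped Groth.Agent.H23.PicMul

variable {k : Type u} [Field k] {A At : Over (Spec (CommRingCat.of k))} [GrpObj A] [IsProper A.hom]
  [GeometricallyIntegral A.hom] [GrpObj At] [IsProper At.hom] [GeometricallyIntegral At.hom]
  {φ : ∀ T : Over (Spec (CommRingCat.of k)), PicF.Cl (PicF.XT A.hom T) → (T ⟶ At)}
  (hφ : AbDual.IsDualAV Scheme.fppfPrecoverage A At φ)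

theorem smooth_connected : Smooth A.hom ∧ GeometricallyConnected A.hom :=
  ⟨S7795.result A, TorsPtsLib.geometricallyConnected A.hom⟩

include hφ in
/-- A Poincaré module, for abelian varieties in the sense of geometric integrality. -/
theorem exists_poincare' : ∃ P : (A ⊗ At).left.Modules, PicF.IsInvertible P ∧
    AbDual.IsPoincareCl A At φ (PicF.cl P) := by
  obtain ⟨h1, h2⟩ := smooth_connected (A := A)
  haveI := h1
  haveI := h2
  exact exists_poincare hφ

include hφ in
/-- **The homomorphism of an ample module is an isogeny of degree the square of its Euler characteristic.** -/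
theorem isogeny_phi_mum {L : A.left.Modules} (hLa : CohB1.IsAmple L) {d : PicF.Cl A.left}
    (hLD : PicF.cl L * d = 1) :
    IsFinite (φ A (mum (PicF.cl L) d)).left ∧ Flat (φ A (mum (PicF.cl L) d)).left ∧
      Surjective (φ A (mum (PicF.cl L) d)).left ∧
      ∀ y, (Scheme.Hom.finrank (φ A (mum (PicF.cl L) d)).left y : ℤ) = @Curv2.euler k _ A.left ⟨A.hom⟩ L ^ 2 := by
  obtain ⟨P, hP, hξ⟩ := exists_poincare' hφ
  let q := AVIndex.clMap k
  haveI : IsAffineHom q := isAffineHom_of_isAffine q
  haveI : Surjective q := ⟨fun x => ⟨IsLocalRing.closedPoint _, Subsingleton.elim _ _⟩⟩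
  haveI : Flat q := Flat.SpecMap_iff.2 (by
    show (algebraMap k (AlgebraicClosure k)).Flat
    rw [RingHom.flat_algebraMap_iff]
    infer_instance)
  obtain ⟨h1, h2, h3⟩ := bc_isogeny hφ hξ q hP hLa hLD
  let lam := φ A (mum (PicF.cl L) d)
  have sq : IsPullback (prj q A) ((Over.pullback q).map lam).left lam.left (prj q At) :=
    IsPullback.of_bot (by
      show IsPullback (pullback.fst A.hom q) (((Over.pullback q).map lam).left ≫ pullback.snd At.hom q)
        (lam.left ≫ At.hom) q
      rw [show ((Over.pullback q).map lam).left ≫ pullback.snd At.hom q = pullback.snd A.hom q from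
        pullback.lift_snd _ _ _, Over.w lam]
      exact IsPullback.of_hasPullback A.hom q) (pullback.lift_fst _ _ _).symm
      (IsPullback.of_hasPullback At.hom q)
  have hg : (@Surjective ⊓ @Flat ⊓ @QuasiCompact : MorphismProperty Scheme.{u}) (prj q At) :=
    ⟨⟨inferInstanceAs (Surjective (pullback.fst At.hom q)), inferInstanceAs (Flat (pullback.fst At.hom q))⟩,
      inferInstanceAs (QuasiCompact (pullback.fst At.hom q))⟩
  haveI hfin : IsFinite lam.left :=
    haveI := EtFound.fpqc_isFinite.{u}
    MorphismProperty.of_isPullback_of_descendsAlong (P := @IsFinite) sq.flip hg h1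
  haveI hflat : Flat lam.left := MorphismProperty.of_isPullback_of_descendsAlong (P := @Flat) sq.flip hg h2
  haveI hsurj : Surjective lam.left :=
    MorphismProperty.of_isPullback_of_descendsAlong (P := @Surjective) sq.flip hg h3
  refine ⟨hfin, hflat, hsurj, fun y => ?_⟩
  haveI : IsIntegral At.left := GeometricallyIntegral.isIntegral_of_subsingleton At.hom
  haveI : LocallyOfFinitePresentation (lam.left ≫ At.hom) := by rw [Over.w lam]; infer_instance
  haveI : LocallyOfFinitePresentation lam.left := S12442.locallyOfFinitePresentation_of_comp lam.left At.hom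
  obtain ⟨D, rfl, hD⟩ := isInvertibleCl_inv ⟨L, rfl, hLa.1⟩ hLD
  exact (euler_sq hφ hP hξ hLa.1 hLD lam (lam.left.finrank y)
    (fun y' => lam.left.isLocallyConstant_finrank.apply_eq_of_preconnectedSpace _ _)
    (pl_poincare_mum hφ hξ ⟨L, rfl, hLa.1⟩ hLD)).symm

variable {B Bt : Over (Spec (CommRingCat.of k))} [GrpObj B] [IsProper B.hom]
  [GeometricallyIntegral B.hom] [GrpObj Bt] [IsProper Bt.hom] [GeometricallyIntegral Bt.hom]
  {φB : ∀ T : Over (Spec (CommRingCat.of k)), PicF.Cl (PicF.XT B.hom T) → (T ⟶ Bt)}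
  (hφB : AbDual.IsDualAV Scheme.fppfPrecoverage B Bt φB)

include hφB in
/-- The pullback of the homomorphism of a module. -/
theorem phi_mum_pullback (f : A ⟶ B) [IsMonHom f] {ft : Bt ⟶ At} (hft : AbDual.IsTranspose f φ φB ft)
    {l d : PicF.Cl B.left} (hl : PicF.IsInvertibleCl l) (hld : l * d = 1) :
    f ≫ φB B (mum l d) ≫ ft = φ A (mum (pl f l) (pl f d)) := by
  have h := hft A _ (pz_pl f (pz_mum hl hld))
  rw [AVDual.bcMap_eq, phi_pl hφB f (pz_mum hl hld), Category.assoc] at h
  rw [← h]
  congr 1
  show pl (f ▷ A) (pl (B ◁ f) (mum l d)) = _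
  simp only [mum, map_mul, pl_pl]
  rw [show (f ▷ A) ≫ (B ◁ f) ≫ μ[B] = μ[A] ≫ f by
      rw [IsMonHom.mul_hom f, MonoidalCategory.tensorHom_def, Category.assoc],
    show (f ▷ A) ≫ (B ◁ f) ≫ fst B B = fst A A ≫ f by simp,
    show (f ▷ A) ≫ (B ◁ f) ≫ snd B B = snd A A ≫ f by simp]

include hφ hφB in
/-- **The transpose of an isogeny is an isogeny of the same degree.** -/
theorem transpose_isogeny (f : A ⟶ B) [IsMonHom f] [IsFinite f.left] [Flat f.left] [Surjective f.left] (n : ℕ)
    (hn : ∀ y, Scheme.Hom.finrank f.left y = n) {ft : Bt ⟶ At} (hft : AbDual.IsTranspose f φ φB ft) :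
    IsMonHom ft ∧ IsFinite ft.left ∧ Flat ft.left ∧ Surjective ft.left ∧
      ∀ x, Scheme.Hom.finrank ft.left x = n := by
  obtain ⟨L, hL⟩ := AVProj.exists_isAmple (X := B)
  obtain ⟨D, hD, ⟨e⟩⟩ := PicInv.exists_inverse hL.1
  have hLD : PicF.cl L * PicF.cl D = 1 := by rw [← PicMul.cl_tensor]; exact PicMul.cl_eq_iff.2 ⟨e⟩
  obtain ⟨f1, f2, f3, f4⟩ := isogeny_phi_mum hφB hL hLD
  let lB := φB B (mum (PicF.cl L) (PicF.cl D))
  haveI : IsFinite lB.left := f1
  haveI : Flat lB.left := f2
  haveI : Surjective lB.left := f3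
  have hfL : CohB1.IsAmple ((Scheme.Modules.pullback f.left).obj L) := RGLib.Lim8.isAmple_pullback_affine _ hL
  have hfLD : PicF.cl ((Scheme.Modules.pullback f.left).obj L) * pl f (PicF.cl D) = 1 := by
    show pl f (PicF.cl L) * pl f (PicF.cl D) = 1
    rw [← map_mul, hLD, map_one]
  obtain ⟨g1, g2, g3, g4⟩ := isogeny_phi_mum hφ hfL hfLD
  let lA := φ A (mum (PicF.cl ((Scheme.Modules.pullback f.left).obj L)) (pl f (PicF.cl D)))
  haveI : IsFinite lA.left := g1
  haveI : Surjective lA.left := g3
  let u : A ⟶ Bt := f ≫ lB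
  haveI : IsFinite u.left := inferInstanceAs (IsFinite (f.left ≫ lB.left))
  haveI : Surjective u.left := inferInstanceAs (Surjective (f.left ≫ lB.left))
  haveI : Flat u.left := inferInstanceAs (Flat (f.left ≫ lB.left))
  have hu : u ≫ ft = lA := by
    rw [Category.assoc]
    exact phi_mum_pullback hφB f hft ⟨L, rfl, hL.1⟩ hLD
  have hul : u.left ≫ ft.left = lA.left := congrArg CommaMorphism.left hu
  haveI : IsProper ft.left := by
    haveI : IsProper (ft.left ≫ At.hom) := by rw [Over.w]; infer_instance
    exact IsProper.of_comp ft.left At.hom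
  haveI hfts : Surjective ft.left := by
    haveI : Surjective (u.left ≫ ft.left) := by rw [hul]; infer_instance
    exact Surjective.of_comp u.left ft.left
  haveI : LocallyQuasiFinite ft.left := locallyQuasiFinite_iff_finite_preimage_singleton.2 fun x => by
    refine ((Scheme.Hom.finite_preimage_singleton lA.left x).image u.left).subset fun z hz => ?_
    obtain ⟨a, rfl⟩ := u.left.surjective z
    refine ⟨a, ?_, rfl⟩
    show lA.left a = x
    rw [← hul]
    exact hz
  haveI hftf : IsFinite ft.left := IsFinite.of_isProper_of_locallyQuasiFinite ft.left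
  haveI hftm : IsMonHom ft := GrpSchLib.RigidHom.isMonHom_of_one ft (by
    haveI := isMonHom_phi_mum hφ (l := PicF.cl ((Scheme.Modules.pullback f.left).obj L)) ⟨_, rfl, hfL.1⟩ hfLD
    haveI := isMonHom_phi_mum hφB (l := PicF.cl L) ⟨L, rfl, hL.1⟩ hLD
    have h : η[A] ≫ u = η[Bt] := IsMonHom.one_hom u
    rw [← h, Category.assoc, hu]
    exact IsMonHom.one_hom lA)
  haveI : IsIntegral A.left := GeometricallyIntegral.isIntegral_of_subsingleton A.hom
  haveI : IsIntegral B.left := GeometricallyIntegral.isIntegral_of_subsingleton B.hom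
  haveI : IsIntegral At.left := GeometricallyIntegral.isIntegral_of_subsingleton At.hom
  haveI : IsIntegral Bt.left := GeometricallyIntegral.isIntegral_of_subsingleton Bt.hom
  haveI hftfl : Flat ft.left := GrpSchLib.flat_of_surjective_hom ft
  refine ⟨hftm, hftf, hftfl, hfts, fun x => ?_⟩
  haveI lfp : ∀ {X Y : Over (Spec (CommRingCat.of k))} [IsProper X.hom] [IsProper Y.hom] (w : X ⟶ Y),
      LocallyOfFinitePresentation w.left := fun {X Y} _ _ w => by
    haveI : LocallyOfFinitePresentation (w.left ≫ Y.hom) := by rw [Over.w w]; infer_instance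
    exact S12442.locallyOfFinitePresentation_of_comp w.left Y.hom
  haveI := lfp f
  haveI := lfp lB
  haveI := lfp u
  haveI := lfp ft
  haveI : IsLocallyNoetherian B.left := LocallyOfFiniteType.isLocallyNoetherian B.hom
  obtain ⟨b⟩ : Nonempty B.left := inferInstance
  obtain ⟨bt⟩ : Nonempty Bt.left := inferInstance
  have hc := AVSubLib.finrank_comp u ft bt x
  rw [hu, AVSubLib.finrank_comp f lB b bt, hn] at hc
  have hA := g4 x
  have hB := f4 bt
  rw [AVEuler.euler_pullback f n hn L (AmpleVan.isCoh_invertible hL.1), mul_pow] at hA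
  have hnpos : 0 < n := by
    obtain ⟨a, rfl⟩ := f.left.surjective b
    exact hn (f.left a) ▸ f.left.one_le_finrank_map a
  have hepos : 0 < lB.left.finrank bt := by
    obtain ⟨a, rfl⟩ := lB.left.surjective bt
    exact lB.left.one_le_finrank_map a
  have hz : ((lA.left.finrank x : ℕ) : ℤ) = ((n ^ 2 * lB.left.finrank bt : ℕ) : ℤ) := by
    push_cast
    rw [hA, ← hB]
  have h := hc.symm.trans (Int.natCast_inj.1 hz)
  exact Nat.eq_of_mul_eq_mul_right (Nat.mul_pos hnpos hepos) (by linear_combination h)

end Groth.Agent.AVField
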